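/-
Frobenius and Frobenius-like groups of automorphisms: the module theoretic core.
-/
import Cfsg.Agent.BG2.P3a
import Cfsg.Agent.FrobNil.C

set_option autoImplicit false
set_option linter.unusedSectionVars false

namespace CF.Kms
open Subgroup CF.BG CF.BG2 Module
open scoped commutatorElement Pointwise

universe u v

variable {G : Type*} [Group G] [Finite G]

theorem exists_cmod {K Q M : Subgroup G} (n : Nil Q) (h : K ≤ Q) (nK : Q ≤ 𝐍 K) (hM : ¬ K ≤ M) :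
    ∃ y ∈ K, y ∉ M ∧ ∀ g ∈ Q, ⁅y, g⁆ ∈ M := by
  obtain ⟨L, ⟨h1, h2, h3⟩, hmin⟩ := Set.Finite.exists_minimalFor id
    {L : Subgroup G | L ≤ K ∧ Q ≤ 𝐍 L ∧ ¬ L ≤ M} (Set.toFinite _) ⟨K, le_rfl, nK, hM⟩
  have hlt : ⁅L, Q⁆ < L := n.comm_lt ⟨h1.trans h, h2⟩ fun e => h3 (e ▸ bot_le)
  have h4 : ⁅L, Q⁆ ≤ M := by_contra fun h5 =>
    hlt.not_ge (hmin ⟨hlt.le.trans h1, norm_comm_right L Q, h5⟩ hlt.le)
  obtain ⟨y, hy, hy'⟩ := SetLike.not_le_iff_exists.1 h3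
  exact ⟨y, h1 hy, hy', fun g hg => h4 (commutator_mem_commutator hy hg)⟩

/-- a subgroup meeting two complements of a Frobenius group contains the conjugating element -/
theorem frob_mem {F H S : Subgroup G} (r : Reg F H) (n : H ≤ 𝐍 F) (s : Sol F) {a b f : G}
    (ha : a ∈ H) (a1 : a ≠ 1) (hb : b ∈ H) (b1 : b ≠ 1) (hf : f ∈ F) (aS : a ∈ S)
    (bS : f⁻¹ * b * f ∈ S) : f ∈ S := by
  set T := S ⊓ (F ⊔ H) with hT
  have nT : T ≤ 𝐍 F := inf_le_right.trans (sup_le (le_norm_self F) n)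
  have cop : (♯H).Coprime (♯F) := r.sr.coprime n
  have d : F.relIndex T ∣ ♯H :=
    (relIndex_dvd_of_norm inf_le_right (sup_le (le_norm_self F) n)).trans
      (by rw [relIndex_sup_norm' (Or.inl n)]; exact relIndex_dvd_card _ _)
  obtain ⟨C, hC, -, e, hc⟩ := Solv.exists_complement_of_coprime (N := F ⊓ T) (M := T) inf_le_right
    (norm_inf nT (le_norm_self T)) (by
      rw [inf_relIndex_right]
      exact ((cop.coprime_dvd_left d).coprime_dvd_right (card_dvd inf_le_left)).symm)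
  rw [inf_relIndex_right] at hc
  obtain ⟨k, hk, hkC⟩ := Coprime.exists_conj_le_of_le_sup H C F n (hC.trans inf_le_right)
    (hc ▸ cop.coprime_dvd_left d) (Or.inr s)
  have key : ∀ x ∈ H, x ≠ 1 → ∀ g ∈ F, g⁻¹ * x * g ∈ S → k⁻¹ * g ∈ S := by
    intro x hx x1 g hg hS
    have hm : g⁻¹ * x * g ∈ T :=
      ⟨hS, mul_mem (mul_mem (mem_sup_left (inv_mem hg)) (mem_sup_right hx)) (mem_sup_left hg)⟩
    obtain ⟨l, hl, hlC⟩ := Coprime.exists_conj_le_of_le_sup C (zpowers (g⁻¹ * x * g)) (F ⊓ T)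
      (hC.trans (norm_inf nT (le_norm_self T))) (by rw [e]; exact zpowers_le.2 hm)
      (by
        rw [Nat.card_zpowers, show g⁻¹ * x * g = MulAut.conj g⁻¹ x by simp, MulEquiv.orderOf_eq]
        exact (cop.coprime_dvd_left (H.orderOf_dvd_natCard hx)).coprime_dvd_right
          (card_dvd inf_le_left)) (Or.inr (s.mono inf_le_left))
    have h1 := hkC (Solv.conj_mem_conj_smul (hlC (Solv.conj_mem_conj_smul (mem_zpowers _) l)) k)
    have h2 : k * l * g⁻¹ ∈ F := mul_mem (mul_mem hk hl.1) (inv_mem hg)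
    have h3 : k * l * g⁻¹ ∈ H := r.sr.mem_of_conj_mem n (mem_sup_left h2) hx x1 (by
      convert h1 using 1; group)
    have h4 : k * l * g⁻¹ = 1 := FrobNil.eq_one_of_bot r.sr.inf_eq_bot h3 h2
    have h5 : k⁻¹ * g = l := by
      rw [mul_inv_eq_one] at h4; rw [← h4]; group
    exact h5 ▸ hl.2.1
  have h1 := key a ha a1 1 (one_mem _) (by simpa using aS)
  have h2 := mul_mem (inv_mem h1) (key b hb b1 f hf bS)
  simpa using h2

/-- the elements of `Q` central modulo `M` -/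
def cZ (Q M : Subgroup G) [M.Normal] : Subgroup G :=
  Q ⊓ (𝐂 (Q.map (QuotientGroup.mk' M))).comap (QuotientGroup.mk' M)

instance (Q M : Subgroup G) [M.Normal] [Q.Normal] : (cZ Q M).Normal := by
  have : (Q.map (QuotientGroup.mk' M)).Normal := Normal.map ‹_› _ (QuotientGroup.mk'_surjective M)
  unfold cZ; infer_instance

theorem mem_cZ {Q M : Subgroup G} [M.Normal] {z : G} :
    z ∈ cZ Q M ↔ z ∈ Q ∧ ∀ y ∈ Q, ⁅z, y⁆ ∈ M := by
  refine and_congr_right fun _ => ⟨fun h y hy => ?_, fun h => mem_cent.2 ?_⟩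
  · have := mem_cent.1 h _ (mem_map_of_mem _ hy)
    rw [← QuotientGroup.eq_one_iff]
    change QuotientGroup.mk' M _ = 1
    rw [map_commutatorElement, commutatorElement_eq_one_iff_mul_comm, this]
  · rintro _ ⟨y, hy, rfl⟩
    have : QuotientGroup.mk' M ⁅z, y⁆ = 1 := (QuotientGroup.eq_one_iff _).2 (h y hy)
    rw [map_commutatorElement, commutatorElement_eq_one_iff_mul_comm] at this
    exact this.symm

variable {k : Type*} {V : Type v} [Field k] [AddCommGroup V] [Module k V]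

theorem comm_of_ker {ρ : G →* End k V} {a b : G} (h : ⁅a, b⁆ ∈ ρ.ker) (v : V) :
    ρ a (ρ b v) = ρ b (ρ a v) := by
  rw [← rep_mul_apply, show a * b = ⁅a, b⁆ * (b * a) by simp [commutatorElement_def],
    rep_mul_apply, MonoidHom.mem_ker.1 h, rep_mul_apply]
  rfl

theorem scal (ρ : G →* End k V) {Q F : Subgroup G} (S : Subgroup G) (n : F ≤ 𝐍 Q)
    (c : (♯F).Coprime (♯Q)) (s : Sol Q) (e : Q ⊓ 𝐂 F = ⊥) {w : V} (w0 : w ≠ 0) {z : G}
    (hz : z ∈ Q) {a : k} (h1 : ∀ f ∈ F, f ∈ S → ρ (f⁻¹ * z * f) w = a • w)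
    (h2 : ∀ f ∈ F, f ∉ S → ρ (f⁻¹ * z * f) w = w) : a = 1 := by
  classical
  have := Fintype.ofFinite F
  have hmul : ∀ {g g' : G} {t t' : F → k}, (∀ f : F, ρ ((f : G)⁻¹ * g * f) w = t f • w) →
      (∀ f : F, ρ ((f : G)⁻¹ * g' * f) w = t' f • w) →
      ∀ f : F, ρ ((f : G)⁻¹ * (g * g') * f) w = (t f * t' f) • w := fun {g g' t t'} h h' f => by
    rw [show (f : G)⁻¹ * (g * g') * f = ((f : G)⁻¹ * g * f) * ((f : G)⁻¹ * g' * f) by group,
      rep_mul_apply, h', map_smul, h, smul_smul, mul_comm]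
  have hne : ∀ {g : G} {t : F → k}, (∀ f : F, ρ ((f : G)⁻¹ * g * f) w = t f • w) →
      ∀ f, t f ≠ 0 := fun {g t} h f e =>
    rep_apply_ne_zero ρ _ w0 (by rw [h f, e, zero_smul])
  have hinv : ∀ {g : G} {t : F → k}, (∀ f : F, ρ ((f : G)⁻¹ * g * f) w = t f • w) →
      ∀ f : F, ρ ((f : G)⁻¹ * g⁻¹ * f) w = (t f)⁻¹ • w := fun {g t} h f => by
    have := congrArg (ρ ((f : G)⁻¹ * g * f)⁻¹) (h f)
    rw [rep_inv_apply, map_smul] at this
    rw [eq_inv_smul_iff₀ (hne h f), show (f : G)⁻¹ * g⁻¹ * f = ((f : G)⁻¹ * g * f)⁻¹ by group]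
    exact this.symm
  let Y : Subgroup G :=
    { carrier := {g | g ∈ Q ∧ ∃ t : F → k, ∀ f : F, ρ ((f : G)⁻¹ * g * f) w = t f • w}
      one_mem' := ⟨one_mem _, fun _ => 1, fun f => by simp⟩
      mul_mem' := fun ⟨a, t, h⟩ ⟨b, t', h'⟩ => ⟨mul_mem a b, _, hmul h h'⟩
      inv_mem' := fun ⟨a, t, h⟩ => ⟨inv_mem a, _, hinv h⟩ }
  let T : Subgroup G :=
    { carrier := {g | ∃ t : F → k, (∀ f : F, ρ ((f : G)⁻¹ * g * f) w = t f • w) ∧ ∏ f, t f = 1}
      one_mem' := ⟨fun _ => 1, fun f => by simp, by simp⟩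
      mul_mem' := fun ⟨t, h, a⟩ ⟨t', h', b⟩ =>
        ⟨_, hmul h h', by rw [Finset.prod_mul_distrib, a, b, one_mul]⟩
      inv_mem' := fun ⟨t, h, a⟩ => ⟨_, hinv h, by rw [Finset.prod_inv_distrib, a, inv_one]⟩ }
  have hconj : ∀ {g : G} {t : F → k}, (∀ f : F, ρ ((f : G)⁻¹ * g * f) w = t f • w) → ∀ x : F,
      ∀ f : F, ρ ((f : G)⁻¹ * (x * g * (x : G)⁻¹) * f) w = t (x⁻¹ * f) • w := fun {g t} h x f => by
    rw [← h]; congr 2; simp [mul_assoc]
  have nY : F ≤ 𝐍 Y := le_norm_iff.2 fun x hx g ⟨hg, t, h⟩ =>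
    ⟨conj_mem_of_norm (n hx) hg, _, hconj h ⟨x, hx⟩⟩
  have hY : Y ≤ Q := fun _ h => h.1
  have h3 : ⁅Y, F⁆ ≤ T := commutator_le.2 fun g ⟨_, t, h⟩ x hx => by
    refine ⟨_, by
      rw [commutatorElement_def, mul_assoc g, mul_assoc g]
      exact hmul h (hconj (hinv h) ⟨x, hx⟩), ?_⟩
    rw [Finset.prod_mul_distrib,
      Fintype.prod_equiv (Equiv.mulLeft (⟨x, hx⟩ : F)⁻¹) (fun f => (t ((⟨x, hx⟩ : F)⁻¹ * f))⁻¹)
        (fun f => (t f)⁻¹) fun _ => rfl,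
      ← Finset.prod_mul_distrib]
    exact Finset.prod_eq_one fun f _ => mul_inv_cancel₀ (hne h f)
  have h4 := Coprime.commutator_sup_centralizer F Y nY (c.coprime_dvd_right (card_dvd hY))
    (Or.inr (s.mono hY))
  rw [eq_bot_iff.2 ((inf_le_inf_right _ hY).trans e.le), sup_bot_eq] at h4
  let t : F → k := fun f => if (f : G) ∈ S then a else 1
  have ht : ∀ f : F, ρ ((f : G)⁻¹ * z * f) w = t f • w := fun f => by
    simp only [t]
    split_ifs with hf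
    exacts [h1 f f.2 hf, by rw [h2 f f.2 hf, one_smul]]
  obtain ⟨t', h5, h6⟩ := h3 (h4.ge (⟨hz, t, ht⟩ : z ∈ Y))
  obtain rfl : t' = t := funext fun f => smul_left_injective k w0 ((h5 f).symm.trans (ht f))
  simp only [t] at h6
  rw [Finset.prod_ite, Finset.prod_const_one, mul_one, Finset.prod_const] at h6
  have h7 : (Finset.univ.filter fun f : F => (f : G) ∈ S).card = ♯(S.subgroupOf F) := by
    rw [Nat.card_eq_fintype_card, Fintype.card_subtype]; rfl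
  have h8 : ∀ m : ℕ, ρ (z ^ m) w = a ^ m • w := fun m => by
    induction m with
    | zero => simp
    | succ m ih =>
      have := h1 1 (one_mem _) (one_mem _)
      rw [inv_one, one_mul, mul_one] at this
      rw [pow_succ, rep_mul_apply, this, map_smul, ih, smul_smul, pow_succ']
  have h9 : a ^ ♯Q = 1 := smul_left_injective k w0 (by
    simp only
    rw [← h8, show z ^ ♯Q = 1 from congrArg Subtype.val (pow_card_eq_one' (x := (⟨z, hz⟩ : Q)))]
    simp)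
  rw [h7] at h6
  exact (pow_eq_one_iff_of_coprime (c.coprime_dvd_left (card_subgroup_dvd_card _))).1 ⟨h6, h9⟩

variable {ρ : G →* End k V} {Q F H Z : Subgroup G} {c : G}

theorem wt_inv (hc : ∀ z ∈ Z, ∀ y ∈ Q, ⁅z, y⁆ ∈ ρ.ker) {χ : Wt Z k} {y : G} (hy : y ∈ Q) {v : V}
    (hv : v ∈ wtSp ρ χ) : ρ y v ∈ wtSp ρ χ :=
  mem_wtSp.2 fun z => by rw [comm_of_ker (hc z z.2 y hy), mem_wtSp.1 hv z, map_smul]

theorem blk [Z.Normal] (hZ : Z ≤ Q) (hc : ∀ z ∈ Z, ∀ y ∈ Q, ⁅z, y⁆ ∈ ρ.ker) (n : F ≤ 𝐍 Q)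
    (co : (♯F).Coprime (♯Q)) (s : Sol Q) (e : Q ⊓ 𝐂 F = ⊥) (hcQ : c ∈ Q)
    (gen : Q ≤ closure {x | ∃ f ∈ F, x = f * c * f⁻¹}) {χ : Wt Z k} (h0 : wtSp ρ χ ≠ ⊥)
    (h : ∀ f ∈ F, f • χ ≠ χ → ∀ v ∈ wtSp ρ (f • χ), ρ c v = v) : χ = wtOne Z k := by
  have triv : ∀ f ∈ F, ∀ g ∈ F, (f⁻¹ * g) • χ ≠ χ → ∀ v ∈ wtSp ρ (g • χ),
      ρ (f * c * f⁻¹) v = v := fun f hf g hg hn v hv => by
    have := apply_mem_wtSp f⁻¹ hv
    rw [← mul_smul] at this
    rw [rep_mul_apply, rep_mul_apply, h _ (mul_mem (inv_mem hf) hg) hn _ this, rep_apply_inv]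
  have key : ∀ g ∈ closure {x | ∃ f ∈ F, x = f * c * f⁻¹}, g ∈ Q ∧ ∃ z ∈ Q,
      (∀ v ∈ wtSp ρ χ, ρ z v = ρ g v) ∧
        ∀ f ∈ F, f • χ ≠ χ → ∀ v ∈ wtSp ρ (f • χ), ρ z v = v := by
    intro g hg
    induction hg using closure_induction with
    | mem x hx =>
      obtain ⟨f, hf, rfl⟩ := hx
      have hm := conj_mem_of_norm (n hf) hcQ
      refine ⟨hm, ?_⟩
      by_cases h1 : f • χ = χ
      · refine ⟨_, hm, fun _ _ => rfl, fun g hg h2 => triv f hf g hg fun h3 => h2 ?_⟩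
        rw [mul_smul, inv_smul_eq_iff] at h3
        rw [h3, h1]
      · refine ⟨1, one_mem _, fun v hv => ?_, fun _ _ _ _ _ => by simp⟩
        rw [triv f hf 1 (one_mem _) (fun h3 => h1 ?_) v (by rwa [one_smul])]
        · simp
        · rw [mul_one, inv_smul_eq_iff] at h3
          exact h3.symm
    | one => exact ⟨one_mem _, 1, one_mem _, fun _ _ => rfl, fun _ _ _ _ _ => by simp⟩
    | mul x y _ _ hx hy =>
      obtain ⟨x0, z, hz, a, b⟩ := hx
      obtain ⟨y0, z', hz', a', b'⟩ := hy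
      refine ⟨mul_mem x0 y0, z * z', mul_mem hz hz', fun v hv => ?_, fun f hf hn v hv => ?_⟩
      · rw [rep_mul_apply, rep_mul_apply, a' v hv, a _ (wt_inv hc y0 hv)]
      · rw [rep_mul_apply, b' f hf hn v hv, b f hf hn v hv]
    | inv x _ hx =>
      obtain ⟨x0, z, hz, a, b⟩ := hx
      refine ⟨inv_mem x0, z⁻¹, inv_mem hz, fun v hv => ?_, fun f hf hn v hv => ?_⟩
      · apply rep_injective ρ z
        rw [rep_apply_inv, a _ (wt_inv hc (inv_mem x0) hv), rep_apply_inv]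
      · conv_lhs => rw [← b f hf hn v hv, rep_inv_apply]
  obtain ⟨w, hw, w0⟩ := Submodule.exists_mem_ne_zero_of_ne_bot h0
  funext z0
  obtain ⟨-, z, hz, a, b⟩ := key z0 (gen (hZ z0.2))
  refine scal ρ (MulAction.stabilizer G χ) n co s e w0 hz (fun f hf hS => ?_) fun f hf hS => ?_
  · have h1 := apply_mem_wtSp f hw
    rw [show f • χ = χ from hS] at h1
    rw [rep_mul_apply, rep_mul_apply, a _ h1, mem_wtSp.1 h1 z0, map_smul, rep_inv_apply]
  · rw [rep_mul_apply, rep_mul_apply, b f hf hS _ (apply_mem_wtSp f hw), rep_inv_apply]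

theorem exists_proj_sum [Z.Normal] (ρ : G →* End k V) (χ : Wt Z k) (A : Subgroup G) [Fintype A]
    [DecidablePred fun a : A => (a : G) • χ = χ] : ∃ e : End k V, ∀ v ∈ wtSp ρ χ,
      e (∑ a : A, ρ a v) = ∑ a ∈ Finset.univ.filter fun a : A => (a : G) • χ = χ, ρ a v := by
  obtain ⟨e, -, -, e3, e4⟩ := exists_proj (wtSp_indep ρ Z) {χ}
  refine ⟨e, fun v hv => ?_⟩
  rw [map_sum, Finset.sum_filter]
  refine Finset.sum_congr rfl fun a _ => ?_
  split_ifs with h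
  · exact e3 χ rfl _ (by have := apply_mem_wtSp (a : G) hv; rwa [h] at this)
  · exact e4 _ h _ (apply_mem_wtSp (a : G) hv)

theorem sum_mem_fix (ρ : G →* End k V) (A : Subgroup G) [Fintype A] (v : V) :
    ∑ a : A, ρ a v ∈ fixSub ρ A := fun s hs => by
  rw [map_sum]
  refine Fintype.sum_equiv (Equiv.mulLeft (⟨s, hs⟩ : A)) _ _ fun r => ?_
  rw [← rep_mul_apply]; rfl

theorem reg [Z.Normal] {χ : Wt Z k} (hs : ∀ h ∈ H, h • χ = χ → h = 1) (hc : c ∈ 𝐂 H)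
    (inv : ∀ v ∈ wtSp ρ χ, ρ c v ∈ wtSp ρ χ) (fx : ∀ v ∈ fixSub ρ H, ρ c v = v) :
    ∀ v ∈ wtSp ρ χ, ρ c v = v := by
  classical
  have := Fintype.ofFinite H
  obtain ⟨e, he⟩ := exists_proj_sum ρ χ H
  have h1 : (Finset.univ.filter fun a : H => (a : G) • χ = χ) = {1} := by
    ext a
    simp only [Finset.mem_filter, Finset.mem_univ, true_and, Finset.mem_singleton]
    exact ⟨fun h => Subtype.ext (hs a a.2 h), fun h => by rw [h]; exact one_smul _ _⟩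
  simp only [h1, Finset.sum_singleton, coe_one, map_one, End.one_apply] at he
  intro v hv
  have h2 : ∑ a : H, ρ a (ρ c v) = ∑ a : H, ρ a v := by
    rw [← fx _ (sum_mem_fix ρ H v), map_sum (ρ c)]
    exact Finset.sum_congr rfl fun a _ => by
      rw [← rep_mul_apply, mem_cent.1 hc a a.2, rep_mul_apply]
  rw [← he _ (inv v hv), h2, he v hv]

end CF.Kms
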