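/-
An element of `C_Q(H)` centralizing `C_V(H)` centralizes `V`.
-/
import Cfsg.Agent.Kms.A

set_option autoImplicit false
set_option linter.unusedSectionVars false

namespace CF.Kms
open Subgroup CF.BG CF.BG2 Module
open scoped commutatorElement Pointwise

universe u v

variable {G : Type*} [Group G] [Finite G] {k : Type*} [Field k] [IsAlgClosed k]
  {Q F H R : Subgroup G} {c : G}

theorem exists_wt {V : Type v} [AddCommGroup V] [Module k V] [FiniteDimensional k V]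
    {ρ : G →* End k V} [Q.Normal] (hk : ((♯Q : ℕ) : k) ≠ 0) (h : ρ c ≠ 1) :
    ∃ χ : Wt (cZ Q ρ.ker) k, ∃ v ∈ wtSp ρ χ, ρ c v ≠ v := by
  by_contra hn
  push Not at hn
  exact h (le_ker_of_wtSp (N := cZ Q ρ.ker) (natCast_ne_zero_of_le hk inf_le_left)
    (commutator_le.2 fun a ha b hb => (mem_cZ.1 ha).2 b hb.1) (S := zpowers c)
    (fun χ _ v hv => mem_fixSub_zpowers.2 (hn χ v hv)) (mem_zpowers c))

theorem propA_aux [Q.Normal] (nQ : Nil Q) (hk : ((♯Q : ℕ) : k) ≠ 0) (r : Reg F H) (n : H ≤ 𝐍 F)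
    (s : Sol F) (co : (♯F).Coprime (♯Q)) (e : Q ⊓ 𝐂 F = ⊥) (hcQ : c ∈ Q) (hc : c ∈ 𝐂 H)
    (gen : Q ≤ closure {x | ∃ f ∈ F, x = f * c * f⁻¹}) (m : ℕ) :
    ∀ {V : Type v} [AddCommGroup V] [Module k V] [FiniteDimensional k V] (ρ : G →* End k V),
      finrank k V < m → (∀ v ∈ fixSub ρ H, ρ c v = v) → ρ c = 1 := by
  induction m with
  | zero => intro V _ _ _ ρ h; omega
  | succ m ih =>
    intro V _ _ _ ρ hm fx
    by_contra h1
    obtain ⟨χ, v, hv, hcv⟩ := exists_wt hk h1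
    have hz : ∀ z ∈ cZ Q ρ.ker, ∀ y ∈ Q, ⁅z, y⁆ ∈ ρ.ker := fun z hz => (mem_cZ.1 hz).2
    have st : ∀ ψ : Wt (cZ Q ρ.ker) k, ∀ w ∈ wtSp ρ ψ, ρ c w ≠ w → ∃ a ∈ H, a ≠ 1 ∧ a • ψ = ψ := by
      intro ψ w hw hn
      by_contra h2
      push Not at h2
      exact hn (reg (fun a ha e => by_contra fun h => h2 a ha h e) hc
        (fun _ => wt_inv hz hcQ) fx w hw)
    obtain ⟨a, ha, a1, aS⟩ := st χ v hv hcv
    have h2 : χ = wtOne _ k := blk (Z := cZ Q ρ.ker) inf_le_left hz le_normalizer_of_normal co nQ.sol e hcQ gen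
      (fun h => hcv (by rw [h, Submodule.mem_bot] at hv; simp [hv])) fun f hf hn w hw =>
        by_contra fun h3 => by
          obtain ⟨b, hb, b1, bS⟩ := st _ w hw h3
          exact hn (frob_mem (S := MulAction.stabilizer G χ) r n s ha a1 hb b1 hf aS (by
            rw [MulAction.mem_stabilizer_iff, mul_smul, mul_smul, bS, inv_smul_smul]))
    rw [h2, wtSp_one] at hv
    obtain ⟨z, z0, z1, z2⟩ := exists_cmod nQ le_rfl (le_norm_self Q)
      (fun h : Q ≤ ρ.ker => h1 (h hcQ))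
    have h3 := ih (subRepTop ρ _ (apply_mem_fixSub_normal ρ (cZ Q ρ.ker))) (by
      refine lt_of_lt_of_le (Submodule.finrank_lt fun h => z1 ?_) (by omega)
      exact fixSub_eq_top.1 h (mem_cZ.2 ⟨z0, z2⟩))
      fun w hw => Subtype.ext (fx _ fun g hg => congrArg Subtype.val (hw g hg))
    exact hcv (congrArg Subtype.val (LinearMap.congr_fun h3 ⟨v, hv⟩))

variable {V : Type v} [AddCommGroup V] [Module k V] [FiniteDimensional k V] {ρ : G →* End k V}

theorem exists_fix {W : Submodule k V} (r : Reg F R) (n : R ≤ 𝐍 F) (s : Sol F)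
    (hk : ((♯F : ℕ) : k) ≠ 0) (hW : ∀ g ∈ F ⊔ R, ∀ w ∈ W, ρ g w ∈ W) (W0 : W ≠ ⊥)
    (h : ∀ w ∈ W, w ∈ fixSub ρ F → w = 0) : ∃ w ∈ W, w ≠ 0 ∧ w ∈ fixSub ρ R := by
  by_contra hn
  push Not at hn
  have := (normalIn_sup_left n).normal
  have h1 := finrank_wielandt (subRep ρ (F ⊔ R) W hW) (s.subgroupOf (F ⊔ R))
    (Reg.subgroupOf r (F ⊔ R)) (by rwa [card_subgroupOf' le_sup_left])
  have h2 : fixSub (subRep ρ (F ⊔ R) W hW) (F.subgroupOf (F ⊔ R)) = ⊥ :=
    eq_bot_iff.2 fun w hw => Subtype.ext (h w w.2 fun g hg =>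
      congrArg Subtype.val (hw ⟨g, mem_sup_left hg⟩ hg))
  have h3 : fixSub (subRep ρ (F ⊔ R) W hW) (R.subgroupOf (F ⊔ R)) = ⊥ :=
    eq_bot_iff.2 fun w hw => Subtype.ext (by_contra fun w0 => hn w w.2 w0 fun g hg =>
      congrArg Subtype.val (hw ⟨g, mem_sup_right hg⟩ hg))
  rw [h2, h3, finrank_bot] at h1
  exact W0 (Submodule.finrank_eq_zero.1 (by omega))

theorem propB [Q.Normal] (nQ : Nil Q) (hk : ((♯Q : ℕ) : k) ≠ 0) (hF : ((♯F : ℕ) : k) ≠ 0)
    (hR : (♯R).Prime) (n : R ≤ 𝐍 F) (s : Sol F) (co : (♯F).Coprime (♯Q))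
    (cq : (♯R).Coprime (♯Q)) (cf : (♯R).Coprime (♯F))
    (pr : ∀ D ≤ F, D ⊓ 𝐂 R = ⊥ ∨ F ⊓ 𝐂 R ≤ D) (e : Q ⊓ 𝐂 F = ⊥) (eV : fixSub ρ F = ⊥)
    (hcQ : c ∈ Q) (hc : c ∈ 𝐂 R) (cen : ∀ t ∈ Q ⊓ 𝐂 R, ⁅t, c⁆ ∈ ρ.ker)
    (gen : Q ≤ closure {x | ∃ f ∈ F, x = f * c * f⁻¹}) (fx : ∀ v ∈ fixSub ρ R, ρ c v = v) :
    ρ c = 1 := by
  classical
  have hz : ∀ z ∈ cZ Q ρ.ker, ∀ y ∈ Q, ⁅z, y⁆ ∈ ρ.ker := fun z hz => (mem_cZ.1 hz).2
  have st : ∀ ψ : Wt (cZ Q ρ.ker) k, (∀ w ∈ wtSp ρ ψ, ρ c w = w) ∨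
      R ≤ MulAction.stabilizer G ψ := fun ψ => by
    rcases (inf_eq_bot_or_le_of_prime hR (MulAction.stabilizer G ψ)) with h | h
    · exact Or.inl (reg (fun a ha e => FrobNil.eq_one_of_bot h ha e) hc (fun _ => wt_inv hz hcQ) fx)
    · exact Or.inr h
  -- `c` centralizes the second centre
  have z2 : ∀ y ∈ cZ Q (cZ Q ρ.ker), ⁅y, c⁆ ∈ ρ.ker := by
    intro y hy
    refine le_ker_of_wtSp (N := cZ Q ρ.ker) (natCast_ne_zero_of_le hk inf_le_left)
      (commutator_le.2 fun a ha b hb => hz a ha b hb.1) (S := zpowers ⁅y, c⁆)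
      (fun χ _ v hv => mem_fixSub_zpowers.2 ?_) (mem_zpowers _)
    let Y : Subgroup G :=
      { carrier := {g | g ∈ Q ∧ ∀ w ∈ wtSp ρ χ, ρ g (ρ c w) = ρ c (ρ g w)}
        one_mem' := ⟨one_mem _, fun w _ => by simp⟩
        mul_mem' := fun ⟨a, h⟩ ⟨b, h'⟩ => ⟨mul_mem a b, fun w hw => by
          rw [rep_mul_apply, rep_mul_apply, h' w hw, h _ (wt_inv hz b hw)]⟩
        inv_mem' := fun {g} ⟨a, h⟩ => ⟨inv_mem a, fun w hw => by
          apply rep_injective ρ g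
          rw [rep_apply_inv, h _ (wt_inv hz (inv_mem a) hw), rep_apply_inv]⟩ }
    suffices h : y ∈ Y by
      have h1 := wt_inv hz (inv_mem hy.1) (wt_inv hz (inv_mem hcQ) hv)
      rw [commutatorElement_def, rep_mul_apply, rep_mul_apply, rep_mul_apply, h.2 _ h1,
        rep_apply_inv, rep_apply_inv]
    rcases st χ with h | h
    · exact ⟨hy.1, fun w hw => by rw [h w hw, h _ (wt_inv hz hy.1 hw)]⟩
    have sc : ∀ g (hg : g ∈ cZ Q (cZ Q ρ.ker)), ∀ w ∈ wtSp ρ χ,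
        ρ g (ρ c w) = χ ⟨⁅g, c⁆, (mem_cZ.1 hg).2 c hcQ⟩ • ρ c (ρ g w) := fun g hg w hw => by
      rw [← mem_wtSp.1 (wt_inv hz hcQ (wt_inv hz hg.1 hw)), ← rep_mul_apply, ← rep_mul_apply,
        ← rep_mul_apply]
      congr 2
      simp [commutatorElement_def]
    refine (Coprime.commutator_sup_centralizer R (cZ Q (cZ Q ρ.ker)) le_normalizer_of_normal
      (cq.coprime_dvd_right (card_dvd inf_le_left)) (Or.inr (nQ.sol.mono inf_le_left))).ge.trans
      (sup_le (c := Y) (commutator_le.2 fun g hg x hx => ?_) fun t ht =>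
        ⟨ht.1.1, fun w _ => comm_of_ker (cen t ⟨ht.1.1, ht.2⟩) w⟩) hy
    have hg' : x * g * x⁻¹ ∈ cZ Q (cZ Q ρ.ker) := Normal.conj_mem inferInstance _ hg x
    have e1 : χ ⟨⁅x * g * x⁻¹, c⁆, (mem_cZ.1 hg').2 c hcQ⟩ = χ ⟨⁅g, c⁆, (mem_cZ.1 hg).2 c hcQ⟩ := by
      conv_lhs => rw [← show x • χ = χ from h hx]
      refine congrArg χ (Subtype.ext ?_)
      have := mem_cent.1 hc x hx
      change x⁻¹ * ⁅x * g * x⁻¹, c⁆ * x = ⁅g, c⁆
      rw [show c = x * c * x⁻¹ by rw [this]; simp, ← conjugate_commutatorElement, this]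
      simp [mul_assoc]
    refine ⟨commutator_le_left _ _ (commutator_mem_commutator hg.1 (mem_top x)), fun w hw => ?_⟩
    have h3 := wt_inv hz (inv_mem hg'.1) hw
    have h4 := sc _ hg' _ h3
    rw [rep_apply_inv, e1] at h4
    have h5 : ρ c w ∈ wtSp ρ χ := wt_inv hz hcQ hw
    have h6 := congrArg (ρ (x * g * x⁻¹)⁻¹) h4
    rw [rep_inv_apply, map_smul] at h6
    rw [show ⁅g, x⁆ = g * (x * g * x⁻¹)⁻¹ by simp [commutatorElement_def, mul_assoc],
      rep_mul_apply, rep_mul_apply]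
    have a0 : χ ⟨⁅g, c⁆, (mem_cZ.1 hg).2 c hcQ⟩ ≠ 0 ∨ w = 0 := by
      by_contra h7
      push Not at h7
      rw [h7.1, zero_smul] at h4
      exact rep_apply_ne_zero ρ _ (rep_apply_ne_zero ρ _ (rep_apply_ne_zero ρ _ h7.2)) h4
    rcases a0 with a0 | rfl
    · apply smul_right_injective V a0
      simp only
      rw [← map_smul, ← h6, sc g hg _ h3]
    · simp
  -- hence `Q` acts commutatively
  have z3 : Q ≤ cZ Q ρ.ker := by
    by_contra h
    obtain ⟨y, y0, y1, y2⟩ := exists_cmod nQ le_rfl (le_norm_self Q) h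
    refine y1 (mem_cZ.2 ⟨y0, fun g hg => ?_⟩)
    have h1 : closure {x | ∃ f ∈ F, x = f * c * f⁻¹} ≤
        (𝐂₁ (QuotientGroup.mk' ρ.ker y)).comap (QuotientGroup.mk' ρ.ker) := by
      rw [closure_le]
      rintro _ ⟨f, hf, rfl⟩
      have h2 := z2 (f⁻¹ * y * f) (Normal.conj_mem' inferInstance _ (mem_cZ.2 ⟨y0, y2⟩) f)
      have h3 : QuotientGroup.mk' ρ.ker ⁅y, f * c * f⁻¹⁆ = 1 := by
        refine (QuotientGroup.eq_one_iff _).2 ?_
        have := Normal.conj_mem inferInstance _ h2 f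
        rw [conjugate_commutatorElement] at this
        simpa [mul_assoc] using this
      rw [map_commutatorElement, commutatorElement_eq_one_iff_mul_comm] at h3
      exact mem_cent1.2 h3.symm
    rw [← QuotientGroup.eq_one_iff]
    change QuotientGroup.mk' ρ.ker _ = 1
    rw [map_commutatorElement, commutatorElement_eq_one_iff_mul_comm]
    exact (mem_cent1.1 (h1 (gen hg))).symm
  by_contra h1
  obtain ⟨χ, v, hv, hcv⟩ := exists_wt hk h1
  have h0 : wtSp ρ χ ≠ ⊥ := fun h => hcv (by rw [h, Submodule.mem_bot] at hv; simp [hv])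
  have hS := (st χ).resolve_left fun h => hcv (h v hv)
  have sc := fun w (hw : w ∈ wtSp ρ χ) => mem_wtSp.1 hw ⟨c, z3 hcQ⟩
  rcases pr (F ⊓ MulAction.stabilizer G χ) inf_le_left with h | h
  · obtain ⟨w, hw, w0, hf⟩ := exists_fix (ρ := ρ) (W := wtSp ρ χ)
      (Coprime.semiReg_of_card_prime hR h) (norm_inf n (norm_of_le hS)) (s.mono inf_le_left)
      (natCast_ne_zero_of_le hF inf_le_left) (fun g hg w hw => by
        have := apply_mem_wtSp g hw
        rwa [show g • χ = χ from sup_le inf_le_right hS hg] at this) h0 fun w hw hf => by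
        have := Fintype.ofFinite F
        obtain ⟨π, hπ⟩ := exists_proj_sum ρ χ F
        have h2 := hπ w hw
        rw [(Submodule.eq_bot_iff _).1 eV _ (sum_mem_fix ρ F w), map_zero,
          Finset.sum_congr rfl (g := fun _ => w) fun (a : F) ha => hf a ⟨a.2, by simpa using ha⟩,
          Finset.sum_const, ← Nat.cast_smul_eq_nsmul k] at h2
        refine (smul_eq_zero.1 h2.symm).resolve_left ?_
        have h7 : (Finset.univ.filter fun f : F => (f : G) • χ = χ).card =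
            ♯((MulAction.stabilizer G χ).subgroupOf F) := by
          rw [Nat.card_eq_fintype_card, Fintype.card_subtype]; rfl
        rw [h7]
        exact fun e => hF (by
          obtain ⟨j, hj⟩ := card_subgroup_dvd_card ((MulAction.stabilizer G χ).subgroupOf F)
          rw [hj, Nat.cast_mul, e, zero_mul])
    have h2 : χ ⟨c, z3 hcQ⟩ = 1 := smul_left_injective k w0 (by
      simp only
      rw [← sc w hw, one_smul]
      exact fx w hf)
    exact hcv (by rw [sc v hv, h2, one_smul])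
  · have h2 : χ = wtOne _ k := blk (Z := cZ Q ρ.ker) inf_le_left hz le_normalizer_of_normal co nQ.sol e hcQ gen h0
      fun f hf hn => (st _).resolve_right fun h3 => by
        obtain ⟨d, hd, e1⟩ := Coprime.exists_centralizer_smul_eq R F n cf (Or.inr s) χ f hf
          (fun a ha => hS ha) fun a ha => h3 ha
        exact hn (e1 ▸ (h hd).2)
    exact hcv (by rw [sc v hv, h2, wtOne, one_smul])

end CF.Kms
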