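/-
The standing hypothesis, quotients and the key proposition for groups.
-/
import Cfsg.Agent.Kms.B

set_option autoImplicit false
set_option linter.unusedSectionVars false

namespace CF.Kms
open Subgroup CF.BG CF.BG2 Module
open scoped commutatorElement Pointwise

universe u v

variable {G : Type*} [Group G] [Finite G] {p q : ℕ} {A D F H K N Q V X Y : Subgroup G} {c : G}

theorem setup (a : Abelem p V) (hp : p.Prime) [V.Normal] (hc : c ∈ Q) (nD : D ≤ 𝐍 Q)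
    (hH : c ∈ 𝐂 H) (n : H ≤ 𝐍 D) (cv : c ∈ 𝐂 (V ⊓ 𝐂 H)) :
    ∃ (L : Subgroup G) (Q0 : Subgroup L) (_ : Q0.Normal) (c0 : L) (k : Type) (_ : Field k)
      (_ : IsAlgClosed k) (m : ℕ) (ρ : L →* End k (Fin m → k)), (c0 : G) = c ∧ D ≤ L ∧ H ≤ L ∧
      Q0 ≤ Q.subgroupOf L ∧ c0 ∈ Q0 ∧
      Q0 ≤ closure {x | ∃ f ∈ D.subgroupOf L, x = f * c0 * f⁻¹} ∧
      (∀ v ∈ fixSub ρ (H.subgroupOf L), ρ c0 v = v) ∧ (∀ g : L, g ∈ ρ.ker ↔ (g : G) ∈ 𝐂 V) ∧
      (V ⊓ 𝐂 D = ⊥ → fixSub ρ (D.subgroupOf L) = ⊥) ∧ ∀ m : ℕ, PiNat {p}ᶜ m → (m : k) ≠ 0 := by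
  set Q1 := closure {x | ∃ f ∈ D, x = f * c * f⁻¹} with hQ1
  have c1 : c ∈ Q1 := subset_closure ⟨1, one_mem _, by simp⟩
  have n1 : ∀ g, (∀ f ∈ D, ∃ f' ∈ D, g * (f * c * f⁻¹) * g⁻¹ = f' * c * f'⁻¹) →
      ∀ x ∈ Q1, g * x * g⁻¹ ∈ Q1 := fun g hg x hx => by
    have : Q1 ≤ Q1.comap (MulAut.conj g).toMonoidHom := (closure_le _).2 (by
      rintro _ ⟨f, hf, rfl⟩
      obtain ⟨f', hf', e⟩ := hg f hf
      exact subset_closure ⟨f', hf', e⟩)
    exact this hx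
  have nD1 : D ≤ 𝐍 Q1 := le_norm_iff.2 fun g hg => n1 g fun f hf =>
    ⟨g * f, mul_mem hg hf, by group⟩
  have nH1 : H ≤ 𝐍 Q1 := le_norm_iff.2 fun g hg => n1 g fun f hf =>
    ⟨g * f * g⁻¹, conj_mem_of_norm (n hg) hf, by
      have := mem_cent.1 hH g hg
      calc g * (f * c * f⁻¹) * g⁻¹ = g * f * g⁻¹ * (g * c) * g⁻¹ * (g * f * g⁻¹)⁻¹ := by group
        _ = _ := by rw [this]; group⟩
  have cL : c ∈ 𝐍 Q1 := le_norm_self _ c1
  obtain ⟨k, _, _, m, ρ, -, h2, h3, h4⟩ := exists_rep (L := 𝐍 Q1) a hp le_normalizer_of_normal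
  refine ⟨𝐍 Q1, Q1.subgroupOf _, inferInstance, ⟨c, cL⟩, k, inferInstance, inferInstance, m, ρ, rfl,
    nD1, nH1, comap_mono ((closure_le _).2 ?_), c1, ?_, ?_, fun g => ?_, fun e => ?_, h4⟩
  · rintro _ ⟨f, hf, rfl⟩
    exact conj_mem_of_norm (nD hf) hc
  · rw [← comap_map_eq_self_of_injective (subtype_injective _) (closure _), MonoidHom.map_closure]
    refine comap_mono (closure_mono ?_)
    rintro _ ⟨f, hf, rfl⟩
    exact ⟨_, ⟨⟨f, nD1 hf⟩, hf, rfl⟩, rfl⟩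
  · have e : V ⊓ 𝐂 (H ⊔ zpowers c) = V ⊓ 𝐂 H := by
      rw [cent_sup, ← inf_assoc, inf_eq_left, cent_zpowers, le_cent1_iff]; exact cv
    have e1 := h2 _ (sup_le nH1 (zpowers_le.2 cL))
    rw [e, h2 _ nH1] at e1
    have e2 := Submodule.eq_of_le_of_finrank_eq
      (fixSub_mono (ρ := ρ) (comap_mono (f := (𝐍 Q1).subtype) (le_sup_left (a := H) (b := zpowers c))))
      (Nat.pow_right_injective hp.two_le e1).symm
    intro v hv
    exact (e2.ge hv) _ (mem_sup_right (mem_zpowers c) : c ∈ H ⊔ zpowers c)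
  · have := h3 (zpowers (g : G)) (zpowers_le.2 g.2)
    rwa [subgroupOf_zpowers, zpowers_le, zpowers_le] at this
  · have := h2 _ nD1
    rw [e, card_bot] at this
    exact Submodule.finrank_eq_zero.1 ((Nat.pow_eq_one.1 this.symm).resolve_left hp.ne_one)

theorem sub_inf_cent {L : Subgroup G} {Q0 : Subgroup L} (h : Q0 ≤ Q.subgroupOf L) (hD : D ≤ L)
    (e : Q ⊓ 𝐂 D = ⊥) : Q0 ⊓ 𝐂 (D.subgroupOf L) = ⊥ :=
  eq_bot_iff.2 fun x hx => Subtype.ext (FrobNil.eq_one_of_bot e (h hx.1) (mem_cent.2 fun d hd =>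
    congrArg Subtype.val (mem_cent.1 hx.2 ⟨d, hD hd⟩ hd)))

theorem mem_cent_sub {L : Subgroup G} {x : L} (h : (x : G) ∈ 𝐂 H) : x ∈ 𝐂 (H.subgroupOf L) :=
  mem_cent.2 fun y hy => Subtype.ext (mem_cent.1 h y hy)

theorem mem_cent_of_sub {L : Subgroup G} (hH : H ≤ L) {x : L} (h : x ∈ 𝐂 (H.subgroupOf L)) :
    (x : G) ∈ 𝐂 H :=
  mem_cent.2 fun y hy => congrArg Subtype.val (mem_cent.1 h ⟨y, hH hy⟩ hy)

theorem norm_sub (h : H ≤ 𝐍 D) (L : Subgroup G) : H.subgroupOf L ≤ 𝐍 (D.subgroupOf L) :=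
  Coprime.subgroupOf_le_normalizer h L

theorem card_sub_dvd (H L : Subgroup G) : ♯(H.subgroupOf L) ∣ ♯H := by
  rw [← inf_subgroupOf_right, card_subgroupOf' inf_le_right]; exact card_dvd inf_le_left

/-- Frobenius-like data -/
def FL (X F H : Subgroup G) : Prop :=
  (♯H).Prime ∧ (♯H).Coprime (♯X) ∧ (♯H).Coprime (♯F) ∧
    ∃ s : ℕ, s.Prime ∧ PiGrp {s} F ∧ ♯(F ⊓ 𝐂 H) ∣ s

/-- the standing hypothesis -/
structure Hy (X F H : Subgroup G) : Prop where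
  nX : X.Normal
  HF : H ≤ 𝐍 F
  nil : Nil F
  sol : Sol X
  fix : X ⊓ 𝐂 F = ⊥
  dis : X ⊓ H = ⊥
  ty : Reg F H ∨ FL X F H

theorem Hy.fix_le (h : Hy X F H) (hY : Y ≤ X) : Y ⊓ 𝐂 F = ⊥ :=
  eq_bot_iff.2 (h.fix ▸ inf_le_inf_right _ hY)

theorem FL.mono (h : FL X F H) (hY : Y ≤ X) : FL Y F H :=
  ⟨h.1, h.2.1.coprime_dvd_right (card_dvd hY), h.2.2⟩

theorem Hy.mono (h : Hy X F H) (hY : Y ≤ X) (n : Y.Normal) : Hy Y F H :=
  ⟨n, h.HF, h.nil, h.sol.mono hY, h.fix_le hY, eq_bot_iff.2 (h.dis ▸ inf_le_inf_right _ hY),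
    h.ty.imp_right fun a => a.mono hY⟩

theorem fix_O (hp : p.Prime) (n : Nil F) (k : PiGrp {p} N) (nN : F ≤ 𝐍 N) (e : N ⊓ 𝐂 F = ⊥) :
    N ⊓ 𝐂 (𝐎 {p}ᶜ F) = ⊥ :=
  have := Fact.mk hp
  FrobNil.fix_pc k.isPGroup nN e

theorem Hy.prop (h : Hy X F H) (hp : p.Prime) (hq : q.Prime) (pq : q ≠ p) (a : Abelem p V)
    (VX : V ≤ X) [V.Normal] (QX : Q ≤ X) (k : PiGrp {q} Q) (nF : F ≤ 𝐍 Q) :
    Q ⊓ 𝐂 H ⊓ 𝐂 (V ⊓ 𝐂 H) ≤ 𝐂 V := by
  rcases h.ty with r | ⟨r1, r2, r3, s, hs, r4, r5⟩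
  · intro c hc
    obtain ⟨L, Q0, _, c0, k', _, _, m, ρ, rfl, h1, h2, h3, h4, h5, h6, h7, -, h9⟩ :=
      setup (D := 𝐎 {q}ᶜ F) a hp hc.1.1 ((O_le _ _).trans nF) hc.1.2 (le_norm_O _ h.HF) hc.2
    have k0 : PiGrp {q} Q0 := k.dvd ((card_dvd h3).trans (card_sub_dvd _ _))
    exact (h7 c0).1 (propA_aux k0.nil (h9 _ (k0.of_single_ne pq))
      (Reg.subgroupOf (r.mono (O_le _ _) le_rfl) L) (norm_sub (le_norm_O _ h.HF) L)
      ((h.nil.sol.mono (O_le _ _)).subgroupOf L)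
      (((O_pi _ F).dvd (card_sub_dvd _ _)).coprime' k0)
      (sub_inf_cent h3 h1 (fix_O hq h.nil k nF (h.fix_le QX))) h4 (mem_cent_sub hc.1.2) h5 _ ρ
      (Nat.lt_succ_self _) h6)
  by_contra hn
  have nc : Q ⊓ 𝐂 H ≤ 𝐍 (Q ⊓ 𝐂 H ⊓ 𝐂 (V ⊓ 𝐂 H)) := norm_inf (le_norm_self _)
    (norm_cent (norm_inf le_normalizer_of_normal (norm_of_le inf_le_right)))
  obtain ⟨c, hc, c1, c2⟩ := exists_cmod (k.inf_left (K := 𝐂 H)).nil inf_le_left nc hn
  obtain ⟨L, Q0, _, c0, k', _, _, m, ρ, rfl, h1, h2, h3, h4, h5, h6, h7, h8, h9⟩ :=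
    setup (D := F) a hp hc.1.1 nF hc.1.2 h.HF hc.2
  have k0 : PiGrp {q} Q0 := k.dvd ((card_dvd h3).trans (card_sub_dvd _ _))
  have sp : s ≠ p := by
    rintro rfl
    refine r4.inf_cent_ne_bot a.pi le_normalizer_of_normal (fun e => c1 ?_) (h.fix_le VX)
    rw [e]; exact mem_cent.2 fun y hy => by rw [mem_bot.1 hy, one_mul, mul_one]
  have sq : s ≠ q := by
    rintro rfl
    refine r4.inf_cent_ne_bot k nF (fun e => c1 ?_) (h.fix_le QX)
    rw [show c0 = 1 from Subtype.ext (mem_bot.1 (e ▸ hc.1.1))]; exact one_mem _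
  have r6 : PiGrp {s} (F.subgroupOf L) := r4.dvd (card_sub_dvd _ _)
  refine c1 ((h7 c0).1 (propB k0.nil (h9 _ (k0.of_single_ne pq)) (h9 _ (r6.of_single_ne sp))
    (R := H.subgroupOf L) (by rwa [card_subgroupOf' h2]) (norm_sub h.HF L) r6.sol
    ((r6.of_single_ne sq).coprime' k0)
    (by rw [card_subgroupOf' h2]
        exact r2.coprime_dvd_right ((card_dvd h3).trans ((card_sub_dvd _ _).trans (card_dvd QX))))
    (by rwa [card_subgroupOf' h2, card_subgroupOf' h1]) (fun D hD => ?_)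
    (sub_inf_cent h3 h1 (h.fix_le QX)) (h8 (h.fix_le VX)) h4 (mem_cent_sub hc.1.2)
    (fun t ht => (h7 _).2 ?_) h5 h6))
  · have e : F.subgroupOf L ⊓ 𝐂 (H.subgroupOf L) ≤ (F ⊓ 𝐂 H).subgroupOf L := fun x hx =>
      ⟨hx.1, mem_cent_of_sub h2 hx.2⟩
    rcases (Nat.dvd_prime hs).1 ((card_dvd e).trans ((card_sub_dvd _ _).trans r5)) with e1 | e1
    · exact Or.inl (eq_bot_iff.2 ((inf_le_inf_right _ hD).trans (card_eq_one.1 e1).le))
    · refine (inf_eq_bot_or_le_of_prime (e1 ▸ hs) D).imp_left fun e2 => eq_bot_iff.2 ?_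
      exact e2 ▸ le_inf (inf_le_inf_right _ hD) inf_le_left
  · rw [← inv_mem_iff, ← coe_inv, commutatorElement_inv]
    exact c2 t ⟨h3 ht.1, mem_cent_of_sub h2 ht.2⟩

/-- fixed points of `A` modulo `N` lift -/
def Cov (A N : Subgroup G) : Prop :=
  ∀ g : G, (∀ a ∈ A, g⁻¹ * (a * g * a⁻¹) ∈ N) → ∃ n ∈ N, g * n ∈ 𝐂 A

theorem Cov.step [V.Normal] (hV : V ≤ N) (h : Cov A V)
    (h' : Cov (A.map (QuotientGroup.mk' V)) (N.map (QuotientGroup.mk' V))) : Cov A N := by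
  intro g hg
  obtain ⟨_, ⟨n, hn, rfl⟩, e⟩ := h' (QuotientGroup.mk' V g) (by
    rintro _ ⟨a, ha, rfl⟩
    simpa using mem_map_of_mem (QuotientGroup.mk' V) (hg a ha))
  obtain ⟨v, hv, e'⟩ := h (g * n) fun a ha => by
    rw [← QuotientGroup.eq_one_iff]
    change QuotientGroup.mk' V _ = 1
    have := mem_cent.1 e _ (mem_map_of_mem _ ha)
    rw [← map_mul] at this
    rw [map_mul, map_mul, map_mul, this, map_inv, map_inv]
    group
  exact ⟨n * v, mul_mem hn (hV hv), by rwa [← mul_assoc]⟩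

theorem Cov.map [N.Normal] (h : Cov A N) (hX : N ≤ X) :
    X.map (QuotientGroup.mk' N) ⊓ 𝐂 (A.map (QuotientGroup.mk' N)) =
      (X ⊓ 𝐂 A).map (QuotientGroup.mk' N) := by
  refine le_antisymm ?_ ?_
  · rintro _ ⟨⟨x, hx, rfl⟩, hc⟩
    obtain ⟨n, hn, e⟩ := h x fun a ha => by
      rw [← QuotientGroup.eq_one_iff]
      change QuotientGroup.mk' N _ = 1
      rw [map_mul, map_mul, map_mul, mem_cent.1 hc _ (mem_map_of_mem _ ha), map_inv, map_inv]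
      group
    refine ⟨x * n, ⟨mul_mem hx (hX hn), e⟩, ?_⟩
    rw [map_mul, show QuotientGroup.mk' N n = 1 from (QuotientGroup.eq_one_iff _).2 hn, mul_one]
  · rintro _ ⟨x, hx, rfl⟩
    refine ⟨mem_map_of_mem _ hx.1, mem_cent.2 ?_⟩
    rintro _ ⟨a, ha, rfl⟩
    rw [← map_mul, mem_cent.1 hx.2 a ha, map_mul]

theorem cov_bot (A : Subgroup G) : Cov A ⊥ := fun g hg =>
  ⟨1, one_mem _, mem_cent.2 fun a ha => by
    have := mem_bot.1 (hg a ha)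
    rw [inv_mul_eq_one, eq_mul_inv_iff_mul_eq] at this
    rw [mul_one, this]⟩

theorem covF (hp : p.Prime) (n : Nil F) [V.Normal] (k : PiGrp {p} V) (e : V ⊓ 𝐂 F = ⊥) :
    Cov F V := fun g hg => by
  obtain ⟨v, hv, h⟩ := Coprime.exists_mul_mem_centralizer' (𝐎 {p}ᶜ F) V le_normalizer_of_normal
    ((O_pi _ F).coprime' k) (Or.inr k.sol) g fun a ha => hg a (O_le _ _ ha)
  refine ⟨v, hv, mem_cent.2 fun f hf => ?_⟩
  have h1 : (g * v)⁻¹ * (f * (g * v) * f⁻¹) = 1 := by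
    refine FrobNil.eq_one_of_bot (fix_O hp n k le_normalizer_of_normal e) ?_
      (mul_mem (inv_mem h) (conj_mem_of_norm (norm_cent (le_norm_O _ (le_norm_self F)) hf) h))
    have := mul_mem (mul_mem (inv_mem hv) (hg f hf)) (Normal.conj_mem inferInstance _ hv f)
    convert this using 1; group
  rwa [inv_mul_eq_one, eq_mul_inv_iff_mul_eq, eq_comm] at h1

theorem Hy.covV (h : Hy V F H) (a : Abel V) : Cov H V := fun g hg => by
  have := h.nX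
  rcases h.ty with r | r
  · have := a.comm
    obtain ⟨y, hy, e⟩ := FrobNil.fixH_map (X := ⊤) V le_top h.HF r h.fix
      (x := QuotientGroup.mk' V g) ⟨mem_map_of_mem _ (mem_top g), mem_cent.2 (by
        rintro _ ⟨a, ha, rfl⟩
        have : QuotientGroup.mk' V _ = 1 := (QuotientGroup.eq_one_iff _).2 (hg a ha)
        rw [map_mul, map_mul, map_mul, map_inv, map_inv, inv_mul_eq_one,
          eq_mul_inv_iff_mul_eq] at this
        exact this.symm)⟩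
    exact ⟨g⁻¹ * y, QuotientGroup.eq.1 e.symm, by simpa using hy.2⟩
  · exact Coprime.exists_mul_mem_centralizer' H V le_normalizer_of_normal r.2.1 (Or.inr h.sol) g hg

theorem card_map_of_dis [N.Normal] (h : N ⊓ H = ⊥) : ♯(H.map (QuotientGroup.mk' N)) = ♯H := by
  have := Solv.card_map_mk'_mul N H
  rwa [h, card_bot, mul_one] at this

theorem Hy.card_map (h : Hy X F H) [N.Normal] (hN : N ≤ X) :
    ♯(H.map (QuotientGroup.mk' N)) = ♯H :=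
  card_map_of_dis (eq_bot_iff.2 (h.dis ▸ inf_le_inf_right _ hN))

theorem Hy.quot' (h : Hy X F H) [N.Normal] (hN : N ≤ X) (c : Cov F N) :
    Hy (X.map (QuotientGroup.mk' N)) (F.map (QuotientGroup.mk' N)) (H.map (QuotientGroup.mk' N)) := by
  refine ⟨h.nX.map _ (QuotientGroup.mk'_surjective N), (map_mono h.HF).trans (le_normalizer_map _),
    h.nil.map _, h.sol.map _, by rw [c.map hN, h.fix, Subgroup.map_bot], eq_bot_iff.2 ?_,
    h.ty.imp (fun r => r.sr.map _ h.HF) fun ⟨r1, r2, r3, s, hs, r4, r5⟩ => ?_⟩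
  · rintro _ ⟨⟨x, hx, rfl⟩, y, hy, e⟩
    have h1 : y ∈ X := by simpa using mul_mem hx (hN (QuotientGroup.eq.1 e.symm))
    rw [← e, FrobNil.eq_one_of_bot h.dis h1 hy, map_one]
    exact one_mem _
  · rw [FL, h.card_map hN]
    refine ⟨r1, r2.coprime_dvd_right (card_map_dvd _ _), r3.coprime_dvd_right (card_map_dvd _ _),
      s, hs, r4.map _, ?_⟩
    rw [← Coprime.map_mk'_inf_centralizer N H F h.HF r3 (Or.inr h.nil.sol)]
    exact (card_map_dvd _ _).trans r5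

theorem Hy.exists_min (h : Hy X F H) (h1 : X ≠ ⊥) :
    ∃ (V : Subgroup G) (_ : V.Normal) (p : ℕ), p.Prime ∧ V ≠ ⊥ ∧ V ≤ X ∧ Abelem p V ∧
      ♯(X.map (QuotientGroup.mk' V)) < ♯X ∧ Cov F V ∧ Cov H V := by
  have := h.nX
  have := h.sol
  obtain ⟨V, p, hp, hV, VX, a, -⟩ := Solv.exists_isMinNormal_pGroup_le X h1
  have := hV.1
  have a := Abelem.of_isEA hp a
  refine ⟨V, inferInstance, p, hp, hV.2.1, VX, a, ?_, covF hp h.nil a.pi (h.fix_le VX),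
    (h.mono VX inferInstance).covV a.abel⟩
  have h2 := Solv.card_map_mk'_mul V X
  rw [inf_eq_left.2 VX] at h2
  rw [← h2]
  exact lt_mul_of_one_lt_right Nat.card_pos ((one_lt_card_iff_ne_bot V).2 hV.2.1)

theorem cov_aux (m : ℕ) : ∀ {G : Type u} [Group G] [Finite G] {X F H : Subgroup G}, ♯X < m →
    Hy X F H → Cov F X ∧ Cov H X := by
  induction m with
  | zero => intro G _ _ X F H h; omega
  | succ m ih =>
    intro G _ _ X F H hm h
    by_cases h1 : X = ⊥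
    · subst h1; exact ⟨cov_bot _, cov_bot _⟩
    obtain ⟨V, _, p, -, -, VX, -, lt, c1, c2⟩ := h.exists_min h1
    have := ih (by omega) (h.quot' VX c1)
    exact ⟨c1.step VX this.1, c2.step VX this.2⟩

theorem Hy.cov (h : Hy X F H) : Cov F X ∧ Cov H X := cov_aux _ (Nat.lt_succ_self _) h

theorem Hy.quot (h : Hy X F H) [N.Normal] (hN : N ≤ X) :
    Hy (X.map (QuotientGroup.mk' N)) (F.map (QuotientGroup.mk' N)) (H.map (QuotientGroup.mk' N)) :=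
  h.quot' hN (h.mono hN inferInstance).cov.1

theorem Hy.cent_map (h : Hy X F H) [N.Normal] (hN : N ≤ X) :
    X.map (QuotientGroup.mk' N) ⊓ 𝐂 (H.map (QuotientGroup.mk' N)) =
      (X ⊓ 𝐂 H).map (QuotientGroup.mk' N) :=
  (h.mono hN inferInstance).cov.2.map hN

end CF.Kms
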