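/-
Invariant Sylow subgroups, orders, cores, Fitting height and `p`-length.
-/
import Cfsg.Agent.Kms.C
import Cfsg.Agent.Fgs1.FitLen
import Cfsg.Agent.Fgs2.PLen

set_option autoImplicit false
set_option linter.unusedSectionVars false

namespace CF.Kms
open Subgroup CF.BG CF.BG2 Module
open scoped commutatorElement Pointwise

universe u v

variable {G : Type*} [Group G] [Finite G] {p q : ℕ} {A D F H K N Q V X Y : Subgroup G} {c : G}
  {π : Set ℕ}

theorem comap_le_of [V.Normal] (hV : V ≤ X) {P : Subgroup (G ⧸ V)}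
    (h : P ≤ X.map (QuotientGroup.mk' V)) : P.comap (QuotientGroup.mk' V) ≤ X := by
  refine (comap_mono h).trans ?_
  rw [comap_map_eq, QuotientGroup.ker_mk']
  exact sup_le le_rfl hV

theorem le_comap_self [V.Normal] (P : Subgroup (G ⧸ V)) : V ≤ P.comap (QuotientGroup.mk' V) :=
  fun v hv => by
    rw [mem_comap, show QuotientGroup.mk' V v = 1 from (QuotientGroup.eq_one_iff _).2 hv]
    exact one_mem _

theorem relIndex_comap_self [V.Normal] (P : Subgroup (G ⧸ V)) :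
    V.relIndex (P.comap (QuotientGroup.mk' V)) = ♯P := by
  rw [← Solv.card_map_mk', map_comap_eq_self_of_surjective (QuotientGroup.mk'_surjective V)]

theorem syl_aux (hq : q.Prime) (m : ℕ) : ∀ {G : Type u} [Group G] [Finite G] {X F H : Subgroup G},
    ♯X < m → Hy X F H → ∃ P, Syl q P X ∧ F ≤ 𝐍 P ∧ ∀ P', Syl q P' X → F ≤ 𝐍 P' → P' = P := by
  induction m with
  | zero => intro G _ _ X F H h; omega
  | succ m ih =>
    intro G _ _ X F H hm h
    by_cases h1 : X = ⊥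
    · subst h1
      exact ⟨⊥, Hall.refl (piGrp_bot _), le_normalizer_of_normal, fun P' a _ => eq_bot_iff.2 a.le⟩
    obtain ⟨V, _, p, hp, -, VX, a, lt, c1, -⟩ := h.exists_min h1
    obtain ⟨P, s, n, u⟩ := ih (by omega) (h.quot' VX c1)
    set N := P.comap (QuotientGroup.mk' V) with hN
    have NX : N ≤ X := comap_le_of VX s.le
    have nN : F ≤ 𝐍 N := le_norm_iff.2 fun f hf x hx => by
      rw [mem_comap, map_mul, map_mul, map_inv]
      exact conj_mem_of_norm (n (mem_map_of_mem _ hf)) hx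
    have idx : PiNat {q}ᶜ (N.relIndex X) := by rw [hN, relIndex_comap]; exact s.idx
    have iV : PiNat {q} (V.relIndex N) := by rw [hN, relIndex_comap_self]; exact s.pi
    have le : ∀ P', Syl q P' X → F ≤ 𝐍 P' → P' ≤ N := fun P' a b =>
      map_le_iff_le_comap.1 (u _ (a.map _) ((map_mono b).trans (le_normalizer_map _))).le
    by_cases e : p = q
    · subst e
      have s1 : Syl p N X := ⟨NX, by
        change PiNat _ _
        rw [← card_mul_relIndex (le_comap_self P)]; exact a.pi.mul iV, idx⟩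
      exact ⟨N, s1, nN, fun P' a b => a.eq_of_le' s1 (le P' a b)⟩
    have hV : Hall {q}ᶜ V N := ⟨le_comap_self P, a.pi.of_single_ne e, iV.compl_compl⟩
    have cv : ∀ Q Q', Syl q Q N → Syl q Q' N → ∃ v ∈ V, cj v Q = Q' := fun Q Q' a b => by
      obtain ⟨g, hg, rfl⟩ := a.syl_conj b
      obtain ⟨v, hv, x, hx, rfl⟩ := hV.exists_mul a.compl_compl hg
      exact ⟨v, hv, by rw [← cj_cj, cj_of_mem hx]⟩
    obtain ⟨Q, hQ⟩ := exists_syl q N
    have e1 := fix_O hp h.nil a.pi le_normalizer_of_normal (h.fix_le VX)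
    have co : (♯(𝐎 {p}ᶜ F)).Coprime (♯V) := (O_pi _ F).coprime' a.pi
    have : Group.IsSolvable (𝐎 {p}ᶜ F) := h.nil.sol.mono (O_le _ _)
    obtain ⟨k, hk, n1⟩ := FrobNil.exists_inv_conj (D := 𝐎 {p}ᶜ F) (K := V) (M := F)
      le_normalizer_of_normal (O_le _ _) (le_norm_O _ (le_norm_self F)) co e1 Q
      fun f hf => cv _ _ hQ (hQ.cj_of_norm (nN hf))
    have s1 := hQ.cj_of_mem (le_comap_self P hk)
    refine ⟨cj k Q, s1.trans_idx NX idx, n1, fun P' a b => ?_⟩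
    obtain ⟨v, hv, rfl⟩ := cv _ _ s1 (a.of_le (le P' a b) NX)
    obtain ⟨d, hd, e2⟩ := Coprime.exists_centralizer_conj_eq (𝐎 {p}ᶜ F) V le_normalizer_of_normal co
      (Or.inl this) (cj k Q) v hv ((O_le _ _).trans n1) ((O_le _ _).trans b)
    rw [e1, mem_bot] at hd
    rw [hd, map_one, one_smul] at e2
    exact e2.symm

theorem Hy.syl (h : Hy X F H) (hq : q.Prime) :
    ∃ P, Syl q P X ∧ 𝐍 F ≤ 𝐍 P ∧ ∀ P', Syl q P' X → F ≤ 𝐍 P' → P' = P := by
  obtain ⟨P, s, n, u⟩ := syl_aux hq _ (Nat.lt_succ_self _) h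
  have := h.nX
  refine ⟨P, s, le_norm_of_cj fun g hg => u _ (s.cj_of_norm (le_normalizer_of_normal (mem_top g))) ?_,
    u⟩
  rw [← cj_norm, ← cj_of_norm hg]
  exact cj_mono g n

theorem card_aux (m : ℕ) : ∀ {G : Type u} [Group G] [Finite G] {X F H : Subgroup G},
    ♯X < m → Hy X F H → Reg F H → ♯X = ♯(X ⊓ 𝐂 H) ^ ♯H := by
  induction m with
  | zero => intro G _ _ X F H h; omega
  | succ m ih =>
    intro G _ _ X F H hm h r
    by_cases h1 : X = ⊥
    · simp [h1]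
    obtain ⟨V, _, p, hp, -, VX, a, lt, c1, c2⟩ := h.exists_min h1
    have h2 := ih (by omega) (h.quot' VX c1) (r.sr.map _ h.HF)
    have e1 := fix_O hp h.nil a.pi le_normalizer_of_normal (h.fix_le VX)
    have h3 := wielandt_abelem (r.mono (O_le {p}ᶜ _) le_rfl) (le_norm_O _ h.HF)
      (h.nil.sol.mono (O_le _ _)) a hp le_normalizer_of_normal (O_pi _ _)
    rw [cent_sup, ← inf_assoc, e1, bot_inf_eq, card_bot, one_pow, one_mul, mul_one] at h3
    rw [c2.map VX, h.card_map VX] at h2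
    rw [← Solv.card_map_mk'_mul V X, ← Solv.card_map_mk'_mul V (X ⊓ 𝐂 H), ← inf_assoc,
      inf_eq_left.2 VX, mul_pow, ← h2, ← h3]

theorem Hy.card (h : Hy X F H) (r : Reg F H) : ♯X = ♯(X ⊓ 𝐂 H) ^ ♯H :=
  card_aux _ (Nat.lt_succ_self _) h r

theorem comap_O_le [V.Normal] (hX : X.Normal) (VX : V ≤ X) (a : PiGrp π V) :
    (𝐎 π (X.map (QuotientGroup.mk' V))).comap (QuotientGroup.mk' V) ≤ 𝐎 π X := by
  refine le_O ⟨comap_le_of VX (O_le _ _), le_norm_iff.2 fun f hf x hx => ?_⟩ ?_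
  · rw [mem_comap, map_mul, map_mul, map_inv]
    exact conj_mem_of_norm ((O_normal _ _).norm (mem_map_of_mem _ hf)) hx
  · change PiNat _ _
    rw [← card_mul_relIndex (le_comap_self _), relIndex_comap_self]
    exact PiNat.mul a (O_pi _ _)

theorem normal_O (h : X.Normal) (π : Set ℕ) : (𝐎 π X).Normal :=
  normalizer_eq_top_iff.1 (eq_top_iff.2 (le_norm_O π le_normalizer_of_normal))

theorem normal_F (h : X.Normal) : (𝐅 X).Normal :=
  normalizer_eq_top_iff.1 (eq_top_iff.2 (le_norm_F le_normalizer_of_normal))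

theorem opq_aux (hq : q.Prime) (m : ℕ) : ∀ {G : Type u} [Group G] [Finite G] {X F H : Subgroup G},
    ♯X < m → Hy X F H → 𝐎 {q} (X ⊓ 𝐂 H) ≤ 𝐎 {q} X := by
  induction m with
  | zero => intro G _ _ X F H h; omega
  | succ m ih =>
    intro G _ _ X F H hm h
    by_cases h1 : X = ⊥
    · subst h1; exact (O_le _ _).trans (inf_le_left.trans bot_le)
    obtain ⟨V, _, p, hp, -, VX, a, lt, c1, c2⟩ := h.exists_min h1
    have h2 := ih (by omega) (h.quot' VX c1)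
    rw [c2.map VX] at h2
    have h3 := map_le_iff_le_comap.1 ((map_O_le _ _ _).trans h2)
    by_cases e : p = q
    · subst e; exact h3.trans (comap_O_le h.nX VX a.pi)
    have := normal_O (h.quot' VX c1).nX {q}
    set N := (𝐎 {q} (X.map (QuotientGroup.mk' V))).comap (QuotientGroup.mk' V) with hN
    have NX : N ≤ X := comap_le_of VX (O_le _ _)
    have hV : Hall {q}ᶜ V N := ⟨le_comap_self _, a.pi.of_single_ne e, by
      rw [hN, relIndex_comap_self]; exact PiNat.compl_compl (O_pi _ _)⟩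
    obtain ⟨Q, s, n, -⟩ := (h.mono NX inferInstance).syl hq
    have c3 : 𝐎 {q} (X ⊓ 𝐂 H) ≤ 𝐂 (V ⊓ 𝐂 H) := O_cent_normal
      ⟨inf_le_inf_right _ VX, norm_inf le_normalizer_of_normal (norm_of_le inf_le_right)⟩
      (a.pi.of_single_ne e).inf_left
    have c4 : 𝐎 {q} (X ⊓ 𝐂 H) ≤ 𝐂 V := fun c hc => by
      obtain ⟨v, hv, d, hd, rfl⟩ := hV.exists_mul s.compl_compl (h3 hc)
      have h4 : d ∈ 𝐂 H := mem_cent.2 fun y hy => by
        have h5 := mem_cent.1 (O_le _ _ hc).2 y hy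
        have h6 : v⁻¹ * (y * v * y⁻¹) = d * (y * d * y⁻¹)⁻¹ := by
          calc v⁻¹ * (y * v * y⁻¹) = v⁻¹ * (y * (v * d)) * y⁻¹ * (y * d * y⁻¹)⁻¹ := by group
            _ = _ := by rw [h5]; group
        have h7 := FrobNil.eq_one_of_bot (hV.inf_eq_bot s.pi.compl_compl)
          (mul_mem (inv_mem hv) (Normal.conj_mem inferInstance _ hv y))
          (h6 ▸ mul_mem hd (inv_mem (conj_mem_of_norm (n (h.HF hy)) hd)))
        rw [h6, mul_inv_eq_one, eq_mul_inv_iff_mul_eq] at h7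
        exact h7.symm
      refine mul_mem (a.abel hv) (h.prop hp hq (Ne.symm e) a VX (s.le.trans NX) s.pi
        ((le_norm_self F).trans n) ⟨⟨hd, h4⟩, ?_⟩)
      simpa using mul_mem (inv_mem (cent_anti inf_le_left (a.abel hv))) (c3 hc)
    have nl : Nil (N ⊓ 𝐂 V) := by
      have : Group.IsNilpotent ((N ⊓ 𝐂 V).map (QuotientGroup.mk' V)) :=
        ((O_pi {q} _).le ((map_mono inf_le_left).trans (map_comap_le _ _))).nil
      exact Solv.isNilpotent_of_map_of_inf_ker_le (f := QuotientGroup.mk' V) (by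
        rw [QuotientGroup.ker_mk']; exact inf_le_right.trans (cent_symm inf_le_right))
    exact (nl.le_O (le_inf h3 c4) (O_pi _ _)).trans (O_le_O_of_normal
      ⟨inf_le_left.trans NX, le_normalizer_of_normal⟩ _)

theorem Hy.opq (h : Hy X F H) (hq : q.Prime) : 𝐎 {q} (X ⊓ 𝐂 H) ≤ 𝐎 {q} X :=
  opq_aux hq _ (Nat.lt_succ_self _) h

theorem Hy.fit (h : Hy X F H) : 𝐅 (X ⊓ 𝐂 H) ≤ 𝐅 X :=
  F_le_of_forall fun _ hp _ => (h.opq hp).trans (O_le_F _ _)

theorem opi_aux (π : Set ℕ) (m : ℕ) : ∀ {G : Type u} [Group G] [Finite G] {X F H : Subgroup G},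
    ♯X < m → Hy X F H → 𝐎 π (X ⊓ 𝐂 H) ≤ 𝐎 π X := by
  induction m with
  | zero => intro G _ _ X F H h; omega
  | succ m ih =>
    intro G _ _ X F H hm h
    by_cases h1 : 𝐎 π (X ⊓ 𝐂 H) = ⊥
    · rw [h1]; exact bot_le
    obtain ⟨q, hq, h2⟩ := (h.sol.mono ((O_le _ _).trans inf_le_left)).exists_O_ne_bot h1
    have h3 : q ∈ π := (O_pi _ _).mem_of_ne_bot h2 ((O_pi _ _).le (O_le _ _))
    have h4 : 𝐎 {q} X ≠ ⊥ := fun e =>
      h2 (eq_bot_iff.2 ((O_le_O_of_normal (O_normal _ _) _).trans ((h.opq hq).trans e.le)))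
    have := normal_O h.nX {q}
    have h5 := ih (by
      have h2 := Solv.card_map_mk'_mul (𝐎 {q} X) X
      rw [inf_eq_left.2 (O_le _ _)] at h2
      have := lt_mul_of_one_lt_right (Nat.card_pos (α := X.map (QuotientGroup.mk' (𝐎 {q} X))))
        ((one_lt_card_iff_ne_bot _).2 h4)
      omega) (h.quot (O_le {q} X))
    rw [h.cent_map (O_le _ _)] at h5
    exact (map_le_iff_le_comap.1 ((map_O_le _ _ _).trans h5)).trans
      (comap_O_le h.nX (O_le _ _) ((O_pi _ _).of_single h3))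

theorem Hy.opi (h : Hy X F H) (π : Set ℕ) : 𝐎 π (X ⊓ 𝐂 H) ≤ 𝐎 π X :=
  opi_aux π _ (Nat.lt_succ_self _) h

/-- the complement has fixed points -/
def Hz (F H : Subgroup G) : Prop :=
  Reg F H ∨ (⁅F, H⁆ = F ∧ (♯H).Prime ∧ (♯H).Coprime (♯F) ∧ ¬ ∃ j, ♯H = 2 ^ j + 1)

theorem Hy.hz (h : Hy X F H) (z : Hz F H) [N.Normal] (hN : N ≤ X) :
    Hz (F.map (QuotientGroup.mk' N)) (H.map (QuotientGroup.mk' N)) := by
  refine z.imp (fun r => r.sr.map _ h.HF) fun ⟨a, b, c, d⟩ => ?_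
  rw [h.card_map hN, ← map_commutator, a]
  exact ⟨rfl, b, c.coprime_dvd_right (card_map_dvd _ _), d⟩

theorem Hy.eq_bot (h : Hy X F H) (z : Hz F H) (e : X ⊓ 𝐂 H = ⊥) : X = ⊥ := by
  rcases z with r | ⟨z1, z2, z3, z4⟩
  · rw [← card_eq_one, h.card r, e, card_bot, one_pow]
  by_contra h1
  obtain ⟨V, _, p, hp, V1, VX, a, -⟩ := h.exists_min h1
  have h2 := comm_le_cent_of_fpf z2 (le_norm_O {p}ᶜ h.HF) (z3.coprime_dvd_right (card_dvd (O_le _ _)))
    a le_normalizer_of_normal le_normalizer_of_normal (O_pi _ _)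
    (eq_bot_iff.2 (e ▸ inf_le_inf_right _ VX)) fun h => (z4 h).elim
  have h3 : 𝐎 {p}ᶜ F ≤ ⁅𝐎 {p}ᶜ F, H⁆ := by
    have d := h.nil.dprod {p}
    have h4 : ⁅F, H⁆ ≤ ⁅𝐎 {p}ᶜ F, H⁆ ⊔ 𝐎 {p} F := commutator_le.2 fun f hf y hy => by
      obtain ⟨a, ha, b, hb, rfl⟩ := (h.nil.hall_O {p}).exists_mul (h.nil.hall_O {p}ᶜ) hf
      rw [show ⁅a * b, y⁆ = a * ⁅b, y⁆ * (y * a⁻¹ * y⁻¹) by simp [commutatorElement_def, mul_assoc]]
      exact mul_mem (mul_mem (mem_sup_right ha) (mem_sup_left (commutator_mem_commutator hb hy)))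
        (mem_sup_right (conj_mem_of_norm (le_norm_O _ h.HF hy) (inv_mem ha)))
    rw [z1] at h4
    have h5 : ⁅𝐎 {p}ᶜ F, H⁆ ≤ 𝐎 {p}ᶜ F := comm_le_left (le_norm_O _ h.HF)
    intro x hx
    obtain ⟨a, ha, b, hb, rfl⟩ := (mem_sup_norm
      (h5.trans ((O_le _ _).trans (O_normal _ _).norm))).1 (h4 (O_le _ _ hx))
    have : b = 1 := FrobNil.eq_one_of_bot (O_inf_O_compl {p} F) hb
      (by simpa using mul_mem (inv_mem (h5 ha)) hx)
    rwa [this, mul_one]
  have h4 := fix_O hp h.nil a.pi le_normalizer_of_normal (h.fix_le VX)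
  rw [inf_eq_left.2 (cent_symm (h3.trans h2))] at h4
  exact V1 h4

open Fgs1.FitLen in
theorem height (n : ℕ) : ∀ {G : Type u} [Group G] [Finite G] {X F H : Subgroup G},
    Hy X F H → Hz F H → R n (X ⊓ 𝐂 H) = ⊥ → R n X = ⊥ := by
  induction n with
  | zero => exact fun h z e => h.eq_bot z e
  | succ n ih =>
    intro G _ _ X F H h z e
    rw [R_succ, nr_eq_bot_iff] at e ⊢
    have := normal_F h.nX
    have h1 : R n (X ⊓ 𝐂 H) ≤ 𝐅 X :=
      (le_F ⟨R_le _ _, (le_norm_self _).trans (normalizer_le_R _ _)⟩ e).trans h.fit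
    have h2 := ih (h.quot (F_le X)) (h.hz z (F_le X)) (by
      rw [h.cent_map (F_le X), ← map_R, Subgroup.map_eq_bot_iff, QuotientGroup.ker_mk']; exact h1)
    rw [← map_R, Subgroup.map_eq_bot_iff, QuotientGroup.ker_mk'] at h2
    exact nil_of_le_F h2

open Fgs2 in
theorem plen (hp : p.Prime) (k : ℕ) : ∀ {G : Type u} [Group G] [Finite G] {X F H : Subgroup G},
    Hy X F H → Reg F H → PL p k (⊥ : Subgroup (X ⊓ 𝐂 H : Subgroup G)) → PL p k (⊥ : Subgroup X) := by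
  have := Fact.mk hp
  induction k with
  | zero =>
    intro G _ _ X F H h r e
    rw [PL, stepQ_bot_iff, card_top] at e ⊢
    rw [h.card r]
    exact e.pow_left _
  | succ k ih =>
    intro G _ _ X F H h r ⟨B, C, nB, nC, a, b, e⟩
    have := normal_O h.nX {p}ᶜ
    have n1 : ∀ Y : Subgroup (X ⊓ 𝐂 H : Subgroup G), Y.Normal → Y.map (Subgroup.subtype _) ⊴ X ⊓ 𝐂 H :=
      fun Y hY => ⟨map_subtype_le _, le_norm_iff.2 (by
        rintro g hg _ ⟨y, hy, rfl⟩
        exact ⟨_, hY.conj_mem y hy ⟨g, hg⟩, rfl⟩)⟩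
    have h1 : B.map (Subgroup.subtype _) ≤ 𝐎 {p}ᶜ X := (le_O (n1 B nB) (by
      rw [piGrp_map_iff (subtype_injective _)]
      exact (piNat_compl_single_iff_coprime hp).2 (stepQ_bot_iff.1 a))).trans (h.opi _)
    have h2 := (h.quot (O_le {p}ᶜ X)).opi {p}
    rw [h.cent_map (O_le _ _)] at h2
    have := normal_O (h.quot (O_le {p}ᶜ X)).nX {p}
    set N := (𝐎 {p} (X.map (QuotientGroup.mk' (𝐎 {p}ᶜ X)))).comap (QuotientGroup.mk' (𝐎 {p}ᶜ X))
      with hN
    have NX : N ≤ X := comap_le_of (O_le _ _) (O_le _ _)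
    have h3 : C.map (Subgroup.subtype _) ≤ N := map_le_iff_le_comap.1 ((le_O ((n1 C nC).map _)
      (piGrp_of_isPGroup hp (stepP_bot_iff.1 (by
        have := (b.map (Subgroup.subtype _)).map (QuotientGroup.mk' (𝐎 {p}ᶜ X))
        refine this.mono (le_of_eq ?_) le_rfl
        rw [Subgroup.map_eq_bot_iff, QuotientGroup.ker_mk']; exact h1)))).trans h2)
    have h4 := ih (h.quot NX) (r.sr.map _ h.HF) (by
      rw [h.cent_map NX]
      refine (e.map ((QuotientGroup.mk' N).subgroupMap_surjective _)).mono ?_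
      rintro _ ⟨x, hx, rfl⟩
      exact Subtype.ext ((QuotientGroup.eq_one_iff _).2 (h3 ⟨x, hx, rfl⟩)))
    refine ⟨(𝐎 {p}ᶜ X).subgroupOf X, N.subgroupOf X, inferInstance, inferInstance,
      stepQ_of_coprime ?_, ?_, (h4.comap ((QuotientGroup.mk' N).subgroupMap X)).mono fun x hx => ?_⟩
    · exact ((piNat_compl_single_iff_coprime hp).1 (O_pi _ _)).coprime_dvd_left (card_sub_dvd _ _)
    · refine (((stepP_bot_iff.2 (O_pi {p} (X.map (QuotientGroup.mk' (𝐎 {p}ᶜ X)))).isPGroup).comap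
        (QuotientGroup.mk' (𝐎 {p}ᶜ X))).comap X.subtype).mono (fun x hx => ?_) le_rfl
      exact (QuotientGroup.eq_one_iff (x : G)).1 hx
    · exact (QuotientGroup.eq_one_iff (x : G)).1 (congrArg Subtype.val (mem_bot.1 hx))

theorem Hy.sub (h : Hy X F H) (hY : Y ≤ X) (nF : F ≤ 𝐍 Y) (nH : H ≤ 𝐍 Y) :
    Hy (Y.subgroupOf (𝐍 Y)) (F.subgroupOf (𝐍 Y)) (H.subgroupOf (𝐍 Y)) := by
  refine ⟨inferInstance, norm_sub h.HF _, h.nil.subgroupOf _, (h.sol.mono hY).subgroupOf _,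
    sub_inf_cent le_rfl nF (h.fix_le hY), eq_bot_iff.2 fun x hx =>
      Subtype.ext (FrobNil.eq_one_of_bot h.dis (hY hx.1) hx.2),
    h.ty.imp (fun r => Reg.subgroupOf r _) fun ⟨r1, r2, r3, s, hs, r4, r5⟩ => ?_⟩
  rw [FL, card_subgroupOf' nH, card_subgroupOf' nF, card_subgroupOf' (le_norm_self Y)]
  refine ⟨r1, r2.coprime_dvd_right (card_dvd hY), r3, s, hs, r4.dvd (card_sub_dvd _ _), ?_⟩
  have e : F.subgroupOf (𝐍 Y) ⊓ 𝐂 (H.subgroupOf (𝐍 Y)) ≤ (F ⊓ 𝐂 H).subgroupOf (𝐍 Y) := fun x hx =>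
    ⟨hx.1, mem_cent_of_sub nH hx.2⟩
  exact (card_dvd e).trans ((card_sub_dvd _ _).trans r5)

theorem sub_cent {L : Subgroup G} (hH : H ≤ L) :
    Y.subgroupOf L ⊓ 𝐂 (H.subgroupOf L) = (Y ⊓ 𝐂 H).subgroupOf L :=
  le_antisymm (fun _ hx => ⟨hx.1, mem_cent_of_sub hH hx.2⟩) fun _ hx => ⟨hx.1, mem_cent_sub hx.2⟩

theorem Hy.gen (h : Hy X F H) (r : Reg F H) (hY : Y ≤ X) (nF : F ≤ 𝐍 Y) (nH : H ≤ 𝐍 Y)
    (e : X ⊓ 𝐂 H ≤ Y) : Y = X := by
  have h1 := (h.sub hY nF nH).card (Reg.subgroupOf r _)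
  rw [sub_cent nH, card_subgroupOf' nH, card_subgroupOf' (le_norm_self Y),
    card_subgroupOf' (inf_le_left.trans (le_norm_self Y)),
    le_antisymm (inf_le_inf_right _ hY) (le_inf e inf_le_right), ← h.card r] at h1
  exact eq_of_le_of_card_ge hY h1.ge

end CF.Kms
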