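/-
The statements on Frobenius groups of automorphisms, given solvability of groups with a nilpotent
fixed-point-free operator group.
-/
import Cfsg.Agent.Kms.D
import Cfsg.Agent.BG.Sec6
import Cfsg.Agent.BG2.FrobAmb
import Cfsg.Agent.Coprime.Frobenius

set_option autoImplicit false
set_option linter.unusedSectionVars false

namespace CF.Kms
open Subgroup CF.BG CF.BG2 CF.Coprime SemidirectProduct
open scoped commutatorElement Pointwise

universe u v w

/-- solvability of groups with a nilpotent fixed-point-free operator group -/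
def Main : Prop := ∀ (G : Type u) (A : Type v) [Group G] [Finite G] [Group A] [Finite A]
  [MulDistribMulAction A G], Group.IsNilpotent A → (∀ g : G, (∀ a : A, a • g = g) → g = 1) →
    Group.IsSolvable G

theorem Main.amb (M : Main.{w, w}) {Γ : Type w} [Group Γ] [Finite Γ] {X F : Subgroup Γ}
    (n : F ≤ 𝐍 X) (k : Nil F) (e : X ⊓ 𝐂 F = ⊥) : Sol X := by
  let _ : MulDistribMulAction F X :=
    MulDistribMulAction.compHom X ((normalizerMonoidHom X).comp (inclusion n))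
  refine M X F k fun g hg => Subtype.ext (FrobNil.eq_one_of_bot e g.2 (mem_cent.2 fun f hf => ?_))
  have : f * g * f⁻¹ = g := congrArg Subtype.val (hg ⟨f, hf⟩)
  rwa [mul_inv_eq_iff_eq_mul] at this

section frob

variable {G : Type u} {A : Type v} [Group G] [Finite G] [Group A] [Finite A]
  [MulDistribMulAction A G] {Fk Hc : Subgroup A} [Fk.Normal]

/-- the action as a homomorphism -/
abbrev ph (A G : Type*) [Group G] [Group A] [MulDistribMulAction A G] : A →* MulAut G :=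
  MulDistribMulAction.toMulAut A G

theorem reg_of (hHc : Cfsg.IsFrobeniusComplement Hc)
    (hker : Cfsg.frobeniusKernel Hc = (Fk : Set A)) : SemiReg Hc Fk :=
  frob_semiReg hHc (by
    rw [eq_bot_iff]
    intro x hx
    have h1 : x ∈ Cfsg.frobeniusKernel Hc := hker ▸ hx.1
    rcases mem_frobeniusKernel_iff.1 h1 with h | h
    · exact h
    · exact (h 1 (by simpa using hx.2)).elim)

theorem reg_sd (hHc : Cfsg.IsFrobeniusComplement Hc)
    (hker : Cfsg.frobeniusKernel Hc = (Fk : Set A)) :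
    Reg (sdR (ph A G) Fk) (sdR (ph A G) Hc) :=
  (reg_of hHc hker).map _ le_normalizer_of_normal

theorem hy_sd (M : Main.{max u v, max u v}) (hHc : Cfsg.IsFrobeniusComplement Hc)
    (hker : Cfsg.frobeniusKernel Hc = (Fk : Set A)) (N : Subgroup G) [N.Normal]
    (hNA : ∀ (a : A) (n : G), n ∈ N → a • n ∈ N) (hCF : ∀ n ∈ N, (∀ f ∈ Fk, f • n = n) → n = 1) :
    Hy (sdL (ph A G) N) (sdR (ph A G) Fk) (sdR (ph A G) Hc) := by
  have hF := (reg_of hHc hker).isNilpotent le_normalizer_of_normal hHc.1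
  have n : (sdL (ph A G) N).Normal := (normal_sdL_iff _).2 ⟨inferInstance, fun a _ => hNA a⟩
  have e : sdL (ph A G) N ⊓ 𝐂 (sdR (ph A G) Fk) = ⊥ := by
    rw [sdL_inf_centralizer, sdL_eq_bot_iff, eq_bot_iff]
    exact fun g hg => hCF g hg.1 hg.2
  exact ⟨n, (map_mono le_normalizer_of_normal).trans (le_normalizer_map _), Nil.map hF _,
    M.amb le_normalizer_of_normal (Nil.map hF _) e, e, sdL_inf_sdR _ _ _, Or.inl (reg_sd hHc hker)⟩

theorem hy_top (M : Main.{max u v, max u v}) (hHc : Cfsg.IsFrobeniusComplement Hc)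
    (hker : Cfsg.frobeniusKernel Hc = (Fk : Set A))
    (hCF : ∀ g : G, (∀ f ∈ Fk, f • g = g) → g = 1) :
    Hy (sdL (ph A G) ⊤) (sdR (ph A G) Fk) (sdR (ph A G) Hc) :=
  hy_sd M hHc hker ⊤ (fun _ _ _ => mem_top _) fun n _ => hCF n

theorem cent_sd {C : Subgroup G} (hC : ∀ g : G, g ∈ C ↔ ∀ h ∈ Hc, h • g = g) :
    sdL (ph A G) ⊤ ⊓ 𝐂 (sdR (ph A G) Hc) = sdL (ph A G) C := by
  rw [sdL_inf_centralizer, top_inf_eq]
  congr 1
  ext g
  exact (hC g).symm

variable (M : Main.{max u v, max u v}) (hHc : Cfsg.IsFrobeniusComplement Hc)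
  (hker : Cfsg.frobeniusKernel Hc = (Fk : Set A))
include M hHc hker

theorem s4121 (N : Subgroup G) [N.Normal] (hNA : ∀ (a : A) (n : G), n ∈ N → a • n ∈ N)
    (hCNF : ∀ n ∈ N, (∀ f ∈ Fk, f • n = n) → n = 1) (g : G) (hg : ∀ h ∈ Hc, g⁻¹ * h • g ∈ N) :
    ∃ c : G, (∀ h ∈ Hc, h • c = c) ∧ c⁻¹ * g ∈ N := by
  obtain ⟨_, ⟨n, hn, rfl⟩, e⟩ := (hy_sd M hHc hker N hNA hCNF).cov.2 (inl g) (by
    rintro _ ⟨a, ha, rfl⟩
    rw [inr_mul_inl_mul_inv, ← map_inv, ← map_mul]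
    exact mem_map_of_mem _ (hg a ha))
  rw [← map_mul, inl_mem_centralizer_iff] at e
  exact ⟨g * n, e, by simpa using hn⟩

variable (hCF : ∀ g : G, (∀ f ∈ Fk, f • g = g) → g = 1)
include hCF

theorem s4119 : Nat.card G = Nat.card {g : G | ∀ h ∈ Hc, h • g = g} ^ Nat.card Hc := by
  have := (hy_top M hHc hker hCF).card (reg_sd hHc hker)
  rw [sdL_inf_centralizer, card_sdL, card_sdL, card_sdR, top_inf_eq, card_top] at this
  exact this

theorem s4122 :
    closure {x : G | ∃ f ∈ Fk, ∃ c : G, (∀ h ∈ Hc, h • c = c) ∧ x = f • c} = ⊤ := by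
  set Y := closure {x : G | ∃ f ∈ Fk, ∃ c : G, (∀ h ∈ Hc, h • c = c) ∧ x = f • c} with hY
  have key : ∀ a : A, (∀ f ∈ Fk, ∀ c : G, (∀ h ∈ Hc, h • c = c) → ∃ f' ∈ Fk, a • f • c = f' • c) →
      ∀ y ∈ Y, ph A G a y ∈ Y := fun a ha y hy => by
    have : Y ≤ Y.comap (ph A G a).toMonoidHom := (closure_le _).2 (by
      rintro _ ⟨f, hf, c, hc, rfl⟩
      obtain ⟨f', hf', e⟩ := ha f hf c hc
      exact subset_closure ⟨f', hf', c, hc, e⟩)
    exact this hy
  refine sdL_injective (ph A G) ((hy_top M hHc hker hCF).gen (reg_sd hHc hker) (map_mono le_top)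
    (Inv.le_normalizer fun a ha => key a fun f hf c _ => ⟨a * f, mul_mem ha hf, (mul_smul _ _ _).symm⟩)
    (Inv.le_normalizer fun a ha => key a fun f hf c hc =>
      ⟨a * f * a⁻¹, Normal.conj_mem inferInstance _ hf a, by
        rw [mul_smul, hc _ (inv_mem ha), mul_smul]⟩) ?_)
  rw [sdL_inf_centralizer, sdL_le_iff]
  exact fun c hc => subset_closure ⟨1, one_mem _, c, hc.2, (one_smul _ _).symm⟩

theorem s4123 (p : ℕ) [hp : Fact p.Prime] :
    ∃! P : Sylow p G, ∀ (a : A) (x : G), x ∈ (P : Subgroup G) → a • x ∈ (P : Subgroup G) := by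
  obtain ⟨P, s, n, u⟩ := (hy_top M hHc hker hCF).syl hp.out
  obtain ⟨Q, -, rfl⟩ := exists_sdL_eq (ph A G) s.le
  obtain ⟨Q, rfl⟩ := ((hall_map_iff inl_injective).1 s).exists_sylow_top
  have h1 : sdR (ph A G) ⊤ ≤ 𝐍 (sdR (ph A G) Fk) :=
    (map_mono le_normalizer_of_normal).trans (le_normalizer_map _)
  refine ⟨Q, fun a => (sdR_le_normalizer_iff _).1 (h1.trans n) a (mem_top a), fun R hR => ?_⟩
  exact Sylow.ext (sdL_injective (ph A G) (u _ ((syl_sylow_top R).map _)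
    (Inv.le_normalizer fun a _ => hR a)))

variable {C : Subgroup G} (hC : ∀ g : G, g ∈ C ↔ ∀ h ∈ Hc, h • g = g)
include hC

theorem s4389 : Cfsg.fittingSubgroup C = (Cfsg.fittingSubgroup G).subgroupOf C := by
  have h := (hy_top M hHc hker hCF).fit
  rw [cent_sd hC, ← map_F _ inl_injective, ← map_F _ inl_injective,
    map_le_map_iff_of_injective inl_injective] at h
  rw [← map_subtype_inj, subgroupOf_map_subtype, ← F_top (G := G)]
  exact le_antisymm (le_inf h (F_le C)) (F_inf_le le_top)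

theorem s4390 (π : Set ℕ) : Cfsg.piCore π C = (Cfsg.piCore π G).subgroupOf C := by
  have h := (hy_top M hHc hker hCF).opi π
  rw [cent_sd hC, ← map_O _ _ inl_injective, ← map_O _ _ inl_injective,
    map_le_map_iff_of_injective inl_injective] at h
  rw [← map_subtype_inj, subgroupOf_map_subtype, ← O_top (G := G)]
  exact le_antisymm (le_inf h (O_le π C)) (O_inf_le le_top π)

theorem s4391 (p : ℕ) [hp : Fact p.Prime] (k : ℕ) :
    Cfsg.PLengthLE p k G ↔ Cfsg.PLengthLE p k C := by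
  rw [Fgs2.pLen_iff, Fgs2.pLen_iff]
  refine ⟨fun h => (h.comap C.subtype).mono (by simp), fun h => ?_⟩
  have h1 := plen hp.out k (hy_top M hHc hker hCF) (reg_sd hHc hker) (by
    rw [cent_sd hC]
    exact (h.map (f := (sdLEquiv (ph A G) C).toMonoidHom) (sdLEquiv _ C).surjective).mono (by simp))
  refine (h1.comap (topEquiv.symm.trans (sdLEquiv (ph A G) ⊤)).toMonoidHom).mono fun x hx => ?_
  exact (topEquiv.symm.trans (sdLEquiv (ph A G) ⊤)).injective ((mem_bot.1 hx).trans (map_one _).symm)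

end frob

open Fgs1.FitLen in
theorem chain_sub {G : Type*} [Group G] [Finite G] (C : Subgroup G) (n : ℕ) :
    (∃ F : Fin (n + 1) → Subgroup C, F 0 = ⊥ ∧ F (Fin.last n) = ⊤ ∧ Monotone F ∧
      (∀ i, (F i).Normal) ∧ ∀ i : Fin n, ∃ k : ℕ, (F i.succ).lowerCentralSeries k ≤ F i.castSucc) ↔
      R n C = ⊥ := by
  rw [chain_iff, ← map_subtype_inj, map_R, ← MonoidHom.range_eq_map, range_subtype, Subgroup.map_bot]

open Fgs1.FitLen in
theorem s4362 {G : Type u} {A : Type v} [Group G] [Finite G] [Group A] [Finite A]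
    [MulDistribMulAction A G] {Fk Hc : Subgroup A} [Fk.Normal] (M : Main.{max u v, max u v})
    (hHc : Cfsg.IsFrobeniusComplement Hc) (hker : Cfsg.frobeniusKernel Hc = (Fk : Set A))
    (hCF : ∀ g : G, (∀ f ∈ Fk, f • g = g) → g = 1) {C : Subgroup G}
    (hC : ∀ g : G, g ∈ C ↔ ∀ h ∈ Hc, h • g = g) (n : ℕ) :
    (∃ F : Fin (n + 1) → Subgroup G, F 0 = ⊥ ∧ F (Fin.last n) = ⊤ ∧ Monotone F ∧
      (∀ i, (F i).Normal) ∧ ∀ i : Fin n, ∃ k : ℕ, (F i.succ).lowerCentralSeries k ≤ F i.castSucc) ↔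
    (∃ F : Fin (n + 1) → Subgroup C, F 0 = ⊥ ∧ F (Fin.last n) = ⊤ ∧ Monotone F ∧
      (∀ i, (F i).Normal) ∧ ∀ i : Fin n, ∃ k : ℕ, (F i.succ).lowerCentralSeries k ≤ F i.castSucc) := by
  rw [chain_sub, chain_iff]
  refine ⟨fun h => eq_bot_iff.2 (h ▸ R_mono n le_top), fun h => ?_⟩
  have h1 := height n (hy_top M hHc hker hCF) (Or.inl (reg_sd hHc hker)) (by
    rw [cent_sd hC, ← map_R, h, Subgroup.map_bot])
  rwa [← map_R, map_eq_bot_iff_of_injective _ inl_injective] at h1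

section extra

variable {Γ : Type u} [Group Γ] [Finite Γ] {R F X : Subgroup Γ} {r s : ℕ}

theorem hy_extra (M : Main.{u, u}) (hr : r.Prime) (hs : s.Prime) (hR : Nat.card R = r)
    (hF : Cfsg.IsExtraspecial s F) (hRF : R ≤ 𝐍 F) (hcomm : ⁅F, R⁆ = F) (hRX : R ≤ 𝐍 X)
    (hFX : F ≤ 𝐍 X) (hdisj : (R ⊔ F) ⊓ X = ⊥) (hcop : ¬ r ∣ Nat.card X) (hCF : X ⊓ 𝐂 F = ⊥) :
    Hy (X.subgroupOf (𝐍 X)) (F.subgroupOf (𝐍 X)) (R.subgroupOf (𝐍 X)) ∧ (♯R).Coprime (♯F) := by
  obtain ⟨k, d, -, na, -⟩ := extra_facts hs hF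
  have co : (♯R).Coprime (♯F) := by
    refine PiNat.coprime' (π := {s}) (PiGrp.of_single_ne (piGrp_of_card_prime hr hR) ?_) k
    rintro rfl
    exact (PiGrp.comm_lt (piGrp_of_card_prime hr hR) k hRF fun e => na (e ▸ abel_bot)).ne hcomm
  refine ⟨⟨inferInstance, norm_sub hRF _, k.nil.subgroupOf _, (M.amb hFX k.nil hCF).subgroupOf _,
    sub_inf_cent le_rfl hFX hCF, eq_bot_iff.2 fun x hx =>
      Subtype.ext (FrobNil.eq_one_of_bot hdisj (mem_sup_left hx.2) hx.1), Or.inr ?_⟩, co⟩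
  rw [FL, sub_cent hRX, card_subgroupOf' hRX, card_subgroupOf' hFX,
    card_subgroupOf' (le_norm_self X)]
  refine ⟨hR ▸ hr, by rw [hR]; exact (Nat.Prime.coprime_iff_not_dvd hr).2 hcop, co, s, hs,
    k.dvd (card_sub_dvd _ _), (card_sub_dvd _ _).trans ?_⟩
  exact d ▸ card_dvd (inf_cent_le_der hRF co hcomm.ge)

variable (M : Main.{u, u}) (hr : r.Prime) (hs : s.Prime) (hR : Nat.card R = r)
  (hF : Cfsg.IsExtraspecial s F) (hRF : R ≤ 𝐍 F) (hcomm : ⁅F, R⁆ = F) (hRX : R ≤ 𝐍 X)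
  (hFX : F ≤ 𝐍 X) (hdisj : (R ⊔ F) ⊓ X = ⊥) (hcop : ¬ r ∣ Nat.card X) (hCF : X ⊓ 𝐂 F = ⊥)
include M hr hs hR hF hRF hcomm hRX hFX hdisj hcop hCF

theorem s4360 : (Cfsg.fittingSubgroup (X ⊓ 𝐂 R : Subgroup Γ)).map (X ⊓ 𝐂 R).subtype ≤
    (Cfsg.fittingSubgroup X).map X.subtype := by
  have h := map_mono (f := (𝐍 X).subtype)
    (hy_extra M hr hs hR hF hRF hcomm hRX hFX hdisj hcop hCF).1.fit
  rwa [sub_cent hRX, ← F_map_subtype, ← F_map_subtype, map_subgroupOf (le_norm_self X),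
    map_subgroupOf (inf_le_left.trans (le_norm_self X))] at h

theorem s4361 (hnF : ¬ ∃ k : ℕ, r = 2 ^ k + 1) (n : ℕ) :
    (∃ F : Fin (n + 1) → Subgroup X, F 0 = ⊥ ∧ F (Fin.last n) = ⊤ ∧ Monotone F ∧
      (∀ i, (F i).Normal) ∧ ∀ i : Fin n, ∃ k : ℕ, (F i.succ).lowerCentralSeries k ≤ F i.castSucc) ↔
    (∃ F : Fin (n + 1) → Subgroup (X ⊓ 𝐂 R : Subgroup Γ), F 0 = ⊥ ∧ F (Fin.last n) = ⊤ ∧
      Monotone F ∧ (∀ i, (F i).Normal) ∧
        ∀ i : Fin n, ∃ k : ℕ, (F i.succ).lowerCentralSeries k ≤ F i.castSucc) := by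
  rw [chain_sub, chain_sub]
  refine ⟨fun h => eq_bot_iff.2 (h ▸ Fgs1.FitLen.R_mono n inf_le_left), fun h => ?_⟩
  obtain ⟨h1, co⟩ := hy_extra M hr hs hR hF hRF hcomm hRX hFX hdisj hcop hCF
  have h2 := height n h1 (Or.inr (by
    rw [card_subgroupOf' hRX, card_subgroupOf' hFX, hR]
    refine ⟨?_, hr, hR ▸ co, hnF⟩
    rw [← map_subtype_inj, map_commutator, map_subgroupOf hFX, map_subgroupOf hRX, hcomm])) (by
    rw [sub_cent hRX, ← map_subtype_inj, Fgs1.FitLen.map_R,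
      map_subgroupOf (inf_le_left.trans (le_norm_self X)), h, Subgroup.map_bot])
  rwa [← map_subtype_inj, Fgs1.FitLen.map_R, map_subgroupOf (le_norm_self X),
    Subgroup.map_bot] at h2

end extra

end CF.Kms
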